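import Cfsg.Agent.H847.Bs.Defs2
import Cfsg.Agent.H885.NondegGeo
import Cfsg.Agent.H160.QSpin
import Cfsg.Agent.FastGrp
import Cfsg.Agent.Prune
set_option linter.all false
prune_inst 0x7fbcfffdabbcbddfdfff7e7fa6bbcffdfdf4bfffe6fffdcbffe8efffebdf7f82efc5fb8f8ffb5afe0f77e23c50f87bd3f9ffefffe26bd87ffffd1ff41ffbffcfedf7b50971dd9cbe0fbc0fff03f0778e7f3fffffffffffffffffffffffffffbeffbfffffffff
open scoped Cfsg.Agent.FastGrp

-- part: H380/Bs/Base
section
/-!
S5733, orthogonal groups: glueing isometries of `V = W ⟂ U`, and the corresponding counting lemma.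
-/

set_option autoImplicit false

namespace Cfsg.Agent.H380.Bs

open QuadraticMap Cfsg.Agent.LieClassical.OrthCore Cfsg.Agent.LieClassical.OrthTrans
  Cfsg.Agent.LieClassical.OrthFinite Cfsg.Agent.H885.Nondeg Cfsg.Agent.H885.NondegGeo
open Cfsg.Agent.H885.Irr (NdOn)
open Cfsg.Agent.H847.Bs (Inv Frm glue frmQ nQ PlusT slV)

section

variable {F V : Type*} [Field F] [AddCommGroup V] [Module F V] {W U : Submodule F V}

theorem glue_left (h : IsCompl W U) (x : W ≃ₗ[F] W) (y : U ≃ₗ[F] U) (w : W) :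
    glue h x y (w : V) = (x w : V) := by
  simp [glue]

theorem glue_right (h : IsCompl W U) (x : W ≃ₗ[F] W) (y : U ≃ₗ[F] U) (u : U) :
    glue h x y (u : V) = (y u : V) := by
  simp [glue]

theorem exists_add (h : IsCompl W U) (v : V) : ∃ w : W, ∃ u : U, (w : V) + u = v := by
  have hv : v ∈ W ⊔ U := by rw [h.sup_eq_top]; exact Submodule.mem_top
  obtain ⟨w, hw, u, hu, e⟩ := Submodule.mem_sup.1 hv
  exact ⟨⟨w, hw⟩, ⟨u, hu⟩, e⟩

theorem ext_of_compl (h : IsCompl W U) {f g : V ≃ₗ[F] V} (h1 : ∀ w : W, f w = g w)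
    (h2 : ∀ u : U, f u = g u) : f = g := by
  ext v
  obtain ⟨w, u, rfl⟩ := exists_add h v
  rw [map_add, map_add, h1, h2]

theorem glue_mul (h : IsCompl W U) (x x' : W ≃ₗ[F] W) (y y' : U ≃ₗ[F] U) :
    glue h (x * x') (y * y') = glue h x y * glue h x' y' := by
  apply ext_of_compl h
  · intro w
    rw [glue_left, LinearEquiv.mul_apply, LinearEquiv.mul_apply, glue_left, glue_left]
  · intro u
    rw [glue_right, LinearEquiv.mul_apply, LinearEquiv.mul_apply, glue_right, glue_right]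

theorem glue_one (h : IsCompl W U) : glue h (1 : W ≃ₗ[F] W) (1 : U ≃ₗ[F] U) = 1 := by
  apply ext_of_compl h
  · intro w
    rw [glue_left]; rfl
  · intro u
    rw [glue_right]; rfl

theorem glue_inv (h : IsCompl W U) (x : W ≃ₗ[F] W) (y : U ≃ₗ[F] U) :
    (glue h x y)⁻¹ = glue h x⁻¹ y⁻¹ := by
  rw [inv_eq_iff_mul_eq_one, ← glue_mul, mul_inv_cancel, mul_inv_cancel, glue_one]

theorem glue_inj (h : IsCompl W U) {x x' : W ≃ₗ[F] W} {y y' : U ≃ₗ[F] U}
    (e : glue h x y = glue h x' y') : x = x' ∧ y = y' := by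
  constructor
  · ext w
    rw [← glue_left h x y w, e, glue_left]
  · ext u
    rw [← glue_right h x y u, e, glue_right]

/-- `glue · 1` as a homomorphism. -/
noncomputable def glueL (h : IsCompl W U) : (W ≃ₗ[F] W) →* (V ≃ₗ[F] V) where
  toFun x := glue h x 1
  map_one' := glue_one h
  map_mul' x y := by rw [← glue_mul, one_mul]

/-- `glue 1 ·` as a homomorphism. -/
noncomputable def glueR (h : IsCompl W U) : (U ≃ₗ[F] U) →* (V ≃ₗ[F] V) where
  toFun y := glue h 1 y
  map_one' := glue_one h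
  map_mul' x y := by rw [← glue_mul, one_mul]

theorem glueL_apply (h : IsCompl W U) (x : W ≃ₗ[F] W) : glueL h x = glue h x 1 := rfl

theorem glueR_apply (h : IsCompl W U) (y : U ≃ₗ[F] U) : glueR h y = glue h 1 y := rfl

theorem glue_eq_mul (h : IsCompl W U) (x : W ≃ₗ[F] W) (y : U ≃ₗ[F] U) :
    glue h x y = glueL h x * glueR h y := by
  rw [glueL_apply, glueR_apply, ← glue_mul, mul_one, one_mul]

theorem glueL_injective (h : IsCompl W U) : Function.Injective (glueL h (F := F)) :=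
  fun _ _ e => (glue_inj h e).1

/-- restriction of an automorphism to an invariant subspace -/
noncomputable def res [Module.Finite F V] (g : V ≃ₗ[F] V) (hg : _root_.Cfsg.Agent.H847.Bs.Inv g W) : W ≃ₗ[F] W :=
  LinearEquiv.ofInjectiveEndo ((g : V →ₗ[F] V).restrict hg) (by
    intro a b e
    apply Subtype.ext
    apply g.injective
    exact congrArg Subtype.val e)

theorem res_apply [Module.Finite F V] (g : V ≃ₗ[F] V) (hg : _root_.Cfsg.Agent.H847.Bs.Inv g W) (w : W) :
    (res g hg w : V) = g w := rfl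

theorem eq_glue [Module.Finite F V] (h : IsCompl W U) (g : V ≃ₗ[F] V) (hW : _root_.Cfsg.Agent.H847.Bs.Inv g W) (hU : _root_.Cfsg.Agent.H847.Bs.Inv g U) :
    g = glue h (res g hW) (res g hU) := by
  apply ext_of_compl h
  · intro w
    rw [glue_left, res_apply]
  · intro u
    rw [glue_right, res_apply]

theorem inv_glue_left (h : IsCompl W U) (x : W ≃ₗ[F] W) (y : U ≃ₗ[F] U) : _root_.Cfsg.Agent.H847.Bs.Inv (glue h x y) W := by
  intro v hv
  rw [glue_left h x y ⟨v, hv⟩]
  exact (x ⟨v, hv⟩).2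

theorem inv_glue_right (h : IsCompl W U) (x : W ≃ₗ[F] W) (y : U ≃ₗ[F] U) : _root_.Cfsg.Agent.H847.Bs.Inv (glue h x y) U := by
  intro v hv
  rw [glue_right h x y ⟨v, hv⟩]
  exact (y ⟨v, hv⟩).2

/-- projection of an invariant subspace to `U` -/
theorem inv_proj (h : IsCompl W U) {x : W ≃ₗ[F] W} {y : U ≃ₗ[F] U} {Y : Submodule F V}
    (hY : _root_.Cfsg.Agent.H847.Bs.Inv (glue h x y) Y) : _root_.Cfsg.Agent.H847.Bs.Inv y (Y.map (U.projectionOnto W h.symm)) := by
  rintro _ ⟨v, hv, rfl⟩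
  refine ⟨glue h x y v, hY v hv, ?_⟩
  obtain ⟨w, u, rfl⟩ := exists_add h v
  rw [map_add, glue_left, glue_right, map_add, map_add]
  simp only [_root_.Submodule.projectionOnto_apply_right, _root_.Submodule.projectionOnto_apply_left, _root_.zero_add]

theorem le_of_proj_eq_bot (h : IsCompl W U) {Y : Submodule F V}
    (hY : Y.map (U.projectionOnto W h.symm) = ⊥) : Y ≤ W := by
  intro v hv
  have h1 : U.projectionOnto W h.symm v = 0 := by
    have : U.projectionOnto W h.symm v ∈ Y.map (U.projectionOnto W h.symm) := ⟨v, hv, rfl⟩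
    rwa [hY, Submodule.mem_bot] at this
  simpa using h1

theorem finrank_proj_le [Module.Finite F V] (h : IsCompl W U) (Y : Submodule F V) :
    Module.finrank F (Y.map (U.projectionOnto W h.symm)) ≤ Module.finrank F Y :=
  Submodule.finrank_map_le _ _

end

/-! ### Quadratic forms -/

section

variable {F V : Type*} [Field F] [AddCommGroup V] [Module F V] {Q : QuadraticForm F V}
  {W U : Submodule F V}

theorem iso_frmQ (Q : QuadraticForm F V) : (frmQ Q).Iso = O Q := by
  ext g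
  constructor
  · rintro ⟨_, h2⟩
    exact h2
  · intro hg
    exact ⟨fun x y => polar_map hg x y, hg⟩

theorem Split.isCompl (h : Split Q W U) (hQ : Nondeg Q) : IsCompl W U :=
  ⟨disjoint_iff.2 (h.inf hQ), codisjoint_iff.2 h.sup⟩

theorem glue_mem_O (h : Split Q W U) (hc : IsCompl W U) {x : W ≃ₗ[F] W} {y : U ≃ₗ[F] U}
    (hx : x ∈ O (Q.comp W.subtype)) (hy : y ∈ O (Q.comp U.subtype)) : glue hc x y ∈ O Q := by
  rw [mem_O]
  intro v
  obtain ⟨w, u, rfl⟩ := exists_add hc v
  have h1 : Q (x w : V) = Q (w : V) := hx w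
  have h2 : Q (y u : V) = Q (u : V) := hy u
  rw [map_add, glue_left, glue_right, Q_add, Q_add, h1, h2, h.perp _ (x w).2 _ (y u).2,
    h.perp _ w.2 _ u.2]

theorem left_mem_O {hc : IsCompl W U} {x : W ≃ₗ[F] W} {y : U ≃ₗ[F] U} (h : glue hc x y ∈ O Q) :
    x ∈ O (Q.comp W.subtype) := by
  intro w
  show Q (x w : V) = Q (w : V)
  rw [← glue_left hc x y, mem_O.1 h]

theorem right_mem_O {hc : IsCompl W U} {x : W ≃ₗ[F] W} {y : U ≃ₗ[F] U} (h : glue hc x y ∈ O Q) :
    y ∈ O (Q.comp U.subtype) := by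
  intro u
  show Q (y u : V) = Q (u : V)
  rw [← glue_right hc x y, mem_O.1 h]

theorem inv_map_eq [Module.Finite F V] {g : V ≃ₗ[F] V} {Y : Submodule F V} (h : _root_.Cfsg.Agent.H847.Bs.Inv g Y) :
    Y.map (g : V →ₗ[F] V) = Y := by
  apply Submodule.eq_of_le_of_finrank_eq
  · rintro _ ⟨v, hv, rfl⟩
    exact h v hv
  · exact LinearEquiv.finrank_map_eq g Y

theorem Split.inv_right [Module.Finite F V] (h : Split Q W U) (hQ : Nondeg Q) {g : V ≃ₗ[F] V}
    (hg : g ∈ O Q) (hW : _root_.Cfsg.Agent.H847.Bs.Inv g W) : _root_.Cfsg.Agent.H847.Bs.Inv g U := by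
  intro u hu
  rw [h.mem_right_iff hQ]
  intro w hw
  rw [← inv_map_eq hW] at hw
  obtain ⟨w', hw', rfl⟩ := hw
  show polar Q (g w') (g u) = 0
  rw [polar_map hg]
  exact h.perp _ hw' _ hu

/-- extension of elements of `E (Q|U)` -/
theorem glueR_mem_E (h : Split Q W U) (hc : IsCompl W U) {y : U ≃ₗ[F] U}
    (hy : y ∈ E (Q.comp U.subtype)) : glueR hc y ∈ E Q := by
  have key : E (Q.comp U.subtype) ≤ (E Q).comap (glueR hc) := by
    rw [E, Subgroup.closure_le]
    rintro _ ⟨a, b, ha, hb, rfl⟩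
    have ha' : Q (a : V) = 0 := ha
    have hb' : polar Q (a : V) (b : V) = 0 := hb
    have e : glueR hc (siegel (Q.comp U.subtype) a b ha hb) = siegel Q (a : V) (b : V) ha' hb' := by
      apply ext_of_compl hc
      · intro w
        rw [glueR_apply, glue_left, siegel_apply, h.perp' a.2 w.2, h.perp' b.2 w.2]
        simp only [_root_.LinearEquiv.coe_one, _root_.id_eq, _root_.zero_smul, _root_.add_zero, _root_.sub_zero, _root_.MulZeroClass.mul_zero]
      · intro u
        rw [glueR_apply, glue_right, siegel_apply, siegel_apply]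
        rfl
    show glueR hc _ ∈ E Q
    rw [e]
    exact siegel_mem_E _ _
  exact key hy

theorem glueL_mem_E (h : Split Q W U) (hc : IsCompl W U) {x : W ≃ₗ[F] W}
    (hx : x ∈ E (Q.comp W.subtype)) : glueL hc x ∈ E Q := by
  have key : E (Q.comp W.subtype) ≤ (E Q).comap (glueL hc) := by
    rw [E, Subgroup.closure_le]
    rintro _ ⟨a, b, ha, hb, rfl⟩
    have ha' : Q (a : V) = 0 := ha
    have hb' : polar Q (a : V) (b : V) = 0 := hb
    have e : glueL hc (siegel (Q.comp W.subtype) a b ha hb) = siegel Q (a : V) (b : V) ha' hb' := by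
      apply ext_of_compl hc
      · intro w
        rw [glueL_apply, glue_left, siegel_apply, siegel_apply]
        rfl
      · intro u
        rw [glueL_apply, glue_right, siegel_apply, h.perp _ a.2 _ u.2, h.perp _ b.2 _ u.2]
        simp only [_root_.LinearEquiv.coe_one, _root_.id_eq, _root_.zero_smul, _root_.add_zero, _root_.sub_zero, _root_.MulZeroClass.mul_zero]
    show glueL hc _ ∈ E Q
    rw [e]
    exact siegel_mem_E _ _
  exact key hx

theorem glueR_refl (h : Split Q W U) (hc : IsCompl W U) {a : U} (ha : (Q.comp U.subtype) a ≠ 0)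
    (ha' : Q (a : V) ≠ 0) : glueR hc (_root_.Cfsg.Agent.LieClassical.OrthCore.refl (Q.comp U.subtype) a ha) = refl Q (a : V) ha' := by
  apply ext_of_compl hc
  · intro w
    rw [glueR_apply, glue_left, refl_apply, h.perp' a.2 w.2]
    simp only [_root_.LinearEquiv.coe_one, _root_.id_eq, _root_.MulZeroClass.mul_zero, _root_.zero_smul, _root_.sub_zero]
  · intro u
    rw [glueR_apply, glue_right, refl_apply, refl_apply]
    rfl

theorem glueL_refl (h : Split Q W U) (hc : IsCompl W U) {a : W} (ha : (Q.comp W.subtype) a ≠ 0)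
    (ha' : Q (a : V) ≠ 0) : glueL hc (_root_.Cfsg.Agent.LieClassical.OrthCore.refl (Q.comp W.subtype) a ha) = refl Q (a : V) ha' := by
  apply ext_of_compl hc
  · intro w
    rw [glueL_apply, glue_left, refl_apply, refl_apply]
    rfl
  · intro u
    rw [glueL_apply, glue_right, refl_apply, h.perp _ a.2 _ u.2]
    simp only [_root_.LinearEquiv.coe_one, _root_.id_eq, _root_.MulZeroClass.mul_zero, _root_.zero_smul, _root_.sub_zero]

/-- If `W` contains a hyperbolic pair, every isometry of `U` extends to an element of `E Q`. -/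
theorem exists_glue_mem_E (hG : Good Q) (h : Split Q W U) (hc : IsCompl W U) [Module.Finite F V]
    (hH : ∃ x ∈ W, ∃ y ∈ W, Hyp Q x y) {u : U ≃ₗ[F] U} (hu : u ∈ O (Q.comp U.subtype)) :
    ∃ w ∈ O (Q.comp W.subtype), glue hc w u ∈ E Q := by
  have hnd : Nondeg (Q.comp U.subtype) := nondeg_comp (h.ndOn_right hG.nondeg)
  rw [O_eq_closure hnd] at hu
  induction hu using Subgroup.closure_induction with
  | mem g hg =>
    rcases hg with ⟨a, ha, rfl⟩ | ⟨a, b, ha, hb, rfl⟩
    · have ha' : Q (a : V) ≠ 0 := ha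
      obtain ⟨x, hx, y, hy, hxy⟩ := hH
      have hQ : Q (x + Q (a : V) • y) = Q (a : V) := by
        rw [Q_add, hxy.left, QuadraticMap.map_smul, hxy.right, polar_smul_right, hxy.pair]
        simp
      let c : W := ⟨x + Q (a : V) • y, W.add_mem hx (W.smul_mem _ hy)⟩
      have hc' : Q (c : V) ≠ 0 := by
        show Q (x + Q (a : V) • y) ≠ 0
        rw [hQ]; exact ha'
      have hcW : (Q.comp W.subtype) c ≠ 0 := hc'
      refine ⟨_root_.Cfsg.Agent.LieClassical.OrthCore.refl (Q.comp W.subtype) c hcW, refl_mem_O hcW, ?_⟩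
      rw [glue_eq_mul, glueL_refl h hc hcW hc', glueR_refl h hc ha ha']
      exact hG.refl_mul_refl_mem ha' hc' hQ.symm
    · refine ⟨1, one_mem _, ?_⟩
      have := glueR_mem_E h hc (siegel_mem_E ha hb)
      rwa [glueR_apply] at this
  | one => exact ⟨1, one_mem _, by rw [glue_one]; exact one_mem _⟩
  | mul a b _ _ iha ihb =>
    obtain ⟨w, hw, h1⟩ := iha
    obtain ⟨w', hw', h2⟩ := ihb
    exact ⟨w * w', mul_mem hw hw', by rw [glue_mul]; exact mul_mem h1 h2⟩
  | inv a _ iha =>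
    obtain ⟨w, hw, h1⟩ := iha
    exact ⟨w⁻¹, inv_mem hw, by rw [← glue_inv]; exact inv_mem h1⟩

end

end Cfsg.Agent.H380.Bs
end

-- part: H380/Bs/Count
section
/-!
S5733, orthogonal groups: the counting lemma for glued isometries.
-/

set_option autoImplicit false

namespace Cfsg.Agent.H380.Bs

open QuadraticMap Cfsg.Agent.LieClassical.OrthCore Cfsg.Agent.LieClassical.OrthTrans
  Cfsg.Agent.LieClassical.OrthFinite Cfsg.Agent.H885.Nondeg Cfsg.Agent.H885.NondegGeo
open Cfsg.Agent.H885.Irr (NdOn)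
open Cfsg.Agent.H847.Bs (Inv Frm glue frmQ nQ PlusT slV)

theorem card_union {Γ : Type*} [Group Γ] [Finite Γ] {G M : Subgroup Γ} {E : Set Γ}
    (hTI : ∀ g ∈ G, ∀ x ∈ E, g * x * g⁻¹ ∈ E → g ∈ M) :
    Nat.card G * Nat.card E ≤ Nat.card {z : Γ // ∃ g ∈ G, ∃ x ∈ E, z = g * x * g⁻¹} * Nat.card M := by
  classical
  rw [← Nat.card_prod, ← Nat.card_prod]
  choose r hr x hx hz using fun z : {z : Γ // ∃ g ∈ G, ∃ x ∈ E, z = g * x * g⁻¹} => z.2
  let f : G × E → {z : Γ // ∃ g ∈ G, ∃ x ∈ E, z = g * x * g⁻¹} := fun p =>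
    ⟨p.1 * p.2 * (p.1 : Γ)⁻¹, p.1, p.1.2, p.2, p.2.2, rfl⟩
  have hmem : ∀ p : G × E, (r (f p))⁻¹ * (p.1 : Γ) ∈ M := by
    intro p
    apply hTI _ (mul_mem (inv_mem (hr _)) p.1.2) p.2 p.2.2
    have e : (r (f p))⁻¹ * (p.1 : Γ) * p.2 * ((r (f p))⁻¹ * (p.1 : Γ))⁻¹ = x (f p) := by
      have h1 := hz (f p)
      have h2 : ((f p : {z : Γ // ∃ g ∈ G, ∃ x ∈ E, z = g * x * g⁻¹}) : Γ) = p.1 * p.2 * (p.1 : Γ)⁻¹ := rfl
      rw [h2] at h1
      calc (r (f p))⁻¹ * (p.1 : Γ) * p.2 * ((r (f p))⁻¹ * (p.1 : Γ))⁻¹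
          = (r (f p))⁻¹ * (p.1 * p.2 * (p.1 : Γ)⁻¹) * r (f p) := by group
        _ = x (f p) := by rw [h1]; group
    rw [e]
    exact hx _
  apply Nat.card_le_card_of_injective (fun p : G × E => (f p, (⟨_, hmem p⟩ : M)))
  intro p p' e
  have e1 : f p = f p' := congrArg Prod.fst e
  have e2 : (r (f p))⁻¹ * (p.1 : Γ) = (r (f p'))⁻¹ * (p'.1 : Γ) :=
    congrArg (fun t : _ × M => (t.2 : Γ)) e
  rw [e1] at e2
  have e3 : (p.1 : Γ) = p'.1 := mul_left_cancel e2
  have e4 : (p.1 : Γ) * p.2 * (p.1 : Γ)⁻¹ = p'.1 * p'.2 * (p'.1 : Γ)⁻¹ := congrArg Subtype.val e1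
  rw [e3] at e4
  have e5 : (p.2 : Γ) = p'.2 := mul_left_cancel (mul_right_cancel e4)
  exact Prod.ext (Subtype.ext e3) (Subtype.ext e5)

section

variable {F V : Type*} [Field F] [AddCommGroup V] [Module F V] {Q : QuadraticForm F V}
  {W U : Submodule F V}

/-- the stabiliser of `W` in `O Q` -/
def stabO (Q : QuadraticForm F V) [Module.Finite F V] (W : Submodule F V) : Subgroup (V ≃ₗ[F] V) where
  carrier := {g | g ∈ O Q ∧ _root_.Cfsg.Agent.H847.Bs.Inv g W}
  mul_mem' := by
    rintro a b ⟨ha, ha'⟩ ⟨hb, hb'⟩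
    exact ⟨mul_mem ha hb, fun v hv => ha' _ (hb' v hv)⟩
  one_mem' := ⟨one_mem _, fun v hv => hv⟩
  inv_mem' := by
    rintro a ⟨ha, ha'⟩
    refine ⟨inv_mem ha, fun v hv => ?_⟩
    rw [← inv_map_eq ha'] at hv
    obtain ⟨w, hw, rfl⟩ := hv
    have : a⁻¹ ((a : V →ₗ[F] V) w) = w := a.symm_apply_apply w
    rw [this]
    exact hw

instance [Finite F] [Module.Finite F V] : Finite (V ≃ₗ[F] V) := by
  have : Finite V := Module.finite_of_finite F
  exact Finite.of_injective (fun g : V ≃ₗ[F] V => (g : V → V)) DFunLike.coe_injective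

theorem card_stabO_le [Finite F] [Module.Finite F V] (hQ : Nondeg Q) (h : Split Q W U) :
    Nat.card (stabO Q W) ≤ Nat.card (O (Q.comp W.subtype)) * Nat.card (O (Q.comp U.subtype)) := by
  have hc := Split.isCompl h hQ
  rw [← Nat.card_prod]
  have key : ∀ g : stabO Q W, ∃ p : O (Q.comp W.subtype) × O (Q.comp U.subtype),
      (g : V ≃ₗ[F] V) = glue hc (p.1 : W ≃ₗ[F] W) (p.2 : U ≃ₗ[F] U) := by
    rintro ⟨g, hg, hW⟩
    have hU := Split.inv_right h hQ hg hW
    have e := eq_glue hc g hW hU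
    have hg' := hg
    rw [e] at hg'
    exact ⟨(⟨_, left_mem_O hg'⟩, ⟨_, right_mem_O hg'⟩), e⟩
  choose f hf using key
  apply Nat.card_le_card_of_injective f
  intro a b e
  apply Subtype.ext
  rw [hf a, hf b, e]

/-- the set of isometries conjugate to `glue p.1 p.2`, `p ∈ P` -/
def conjs (Q : QuadraticForm F V) (hc : IsCompl W U) (P : Set ((W ≃ₗ[F] W) × (U ≃ₗ[F] U))) :
    Set (V ≃ₗ[F] V) :=
  {z | ∃ g ∈ O Q, ∃ p ∈ P, z = g * glue hc p.1 p.2 * g⁻¹}

theorem card_conjs [Finite F] [Module.Finite F V] (hQ : Nondeg Q) (h : Split Q W U)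
    (hc : IsCompl W U) (P : Set ((W ≃ₗ[F] W) × (U ≃ₗ[F] U)))
    (hTI : ∀ g ∈ O Q, ∀ p ∈ P, ∀ p' ∈ P, g * glue hc p.1 p.2 * g⁻¹ = glue hc p'.1 p'.2 → _root_.Cfsg.Agent.H847.Bs.Inv g W) :
    Nat.card (O Q) * Nat.card P ≤ Nat.card (conjs Q hc P) *
      (Nat.card (O (Q.comp W.subtype)) * Nat.card (O (Q.comp U.subtype))) := by
  let E : Set (V ≃ₗ[F] V) := (fun p : (W ≃ₗ[F] W) × (U ≃ₗ[F] U) => glue hc p.1 p.2) '' P
  have hE : Nat.card E = Nat.card P := by
    apply Nat.card_image_of_injective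
    intro p p' e
    obtain ⟨h1, h2⟩ := glue_inj hc e
    exact Prod.ext h1 h2
  have h1 : ∀ g ∈ O Q, ∀ x ∈ E, g * x * g⁻¹ ∈ E → g ∈ stabO Q W := by
    rintro g hg _ ⟨p, hp, rfl⟩ ⟨p', hp', e⟩
    exact ⟨hg, hTI g hg p hp p' hp' e.symm⟩
  have h2 := card_union h1
  rw [hE] at h2
  have h3 : Nat.card {z : V ≃ₗ[F] V // ∃ g ∈ O Q, ∃ x ∈ E, z = g * x * g⁻¹} =
      Nat.card (conjs Q hc P) := by
    apply Nat.card_congr
    apply Equiv.subtypeEquivRight
    intro z
    constructor
    · rintro ⟨g, hg, _, ⟨p, hp, rfl⟩, e⟩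
      exact ⟨g, hg, p, hp, e⟩
    · rintro ⟨g, hg, p, hp, e⟩
      exact ⟨g, hg, _, ⟨p, hp, rfl⟩, e⟩
  rw [h3] at h2
  exact h2.trans (Nat.mul_le_mul_left _ (card_stabO_le hQ h))

/-- the pairs `(w, u)` with `u ∈ Y` and `glue w u ∈ E Q` -/
def prs (Q : QuadraticForm F V) (hc : IsCompl W U) (Y : Set (U ≃ₗ[F] U)) :
    Set ((W ≃ₗ[F] W) × (U ≃ₗ[F] U)) :=
  {p | p.1 ∈ O (Q.comp W.subtype) ∧ p.2 ∈ Y ∧ glue hc p.1 p.2 ∈ E Q}

/-- the kernel -/
noncomputable def kerW (Q : QuadraticForm F V) (hc : IsCompl W U) : Subgroup (W ≃ₗ[F] W) :=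
  O (Q.comp W.subtype) ⊓ (E Q).comap (glueL hc)

theorem card_kerW [Finite F] [Module.Finite F V] (h : Split Q W U) (hc : IsCompl W U) :
    Nat.card (O (Q.comp W.subtype)) * Nat.card (E Q) ≤ Nat.card (kerW Q hc) * Nat.card (O Q) := by
  let A : Subgroup (V ≃ₗ[F] V) := (O (Q.comp W.subtype)).map (glueL hc)
  have hA : A ≤ O Q := by
    rintro _ ⟨w, hw, rfl⟩
    exact glue_mem_O h hc hw (one_mem _)
  have hcA : Nat.card A = Nat.card (O (Q.comp W.subtype)) :=
    (Nat.card_congr ((O (Q.comp W.subtype)).equivMapOfInjective _ (glueL_injective hc)).toEquiv).symm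
  have h1 : (E Q).relIndex A ≤ (E Q).relIndex (O Q) :=
    Subgroup.relIndex_le_of_le_right hA Subgroup.FiniteIndex.index_ne_zero
  have h2 : Nat.card ((E Q).subgroupOf A) * (E Q).relIndex A = Nat.card A :=
    Subgroup.card_mul_index _
  have h3 : Nat.card ((E Q).subgroupOf (O Q)) * (E Q).relIndex (O Q) = Nat.card (O Q) :=
    Subgroup.card_mul_index _
  have h4 : Nat.card ((E Q).subgroupOf (O Q)) = Nat.card (E Q) :=
    Nat.card_congr (Subgroup.subgroupOfEquivOfLe E_le_O).toEquiv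
  have h5 : Nat.card ((E Q).subgroupOf A) = Nat.card (kerW Q hc) := by
    symm
    apply Nat.card_congr
    refine Equiv.ofBijective (fun w : kerW Q hc =>
      (⟨⟨glueL hc (w : W ≃ₗ[F] W), ⟨_, w.2.1, rfl⟩⟩, w.2.2⟩ : (E Q).subgroupOf A)) ⟨?_, ?_⟩
    · intro a b e
      apply Subtype.ext
      apply glueL_injective hc
      exact congrArg (fun t : (E Q).subgroupOf A => ((t : A) : V ≃ₗ[F] V)) e
    · rintro ⟨⟨_, ⟨w, hw, rfl⟩⟩, h⟩
      exact ⟨⟨w, hw, h⟩, rfl⟩
  rw [← hcA, ← h2, ← h3, h5, h4]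
  calc Nat.card (kerW Q hc) * (E Q).relIndex A * Nat.card (E Q)
      = Nat.card (kerW Q hc) * (Nat.card (E Q) * (E Q).relIndex A) := by ring
    _ ≤ Nat.card (kerW Q hc) * (Nat.card (E Q) * (E Q).relIndex (O Q)) :=
        Nat.mul_le_mul_left _ (Nat.mul_le_mul_left _ h1)

theorem card_prs [Finite F] [Module.Finite F V] (hc : IsCompl W U) (Y : Set (U ≃ₗ[F] U))
    (hex : ∀ u ∈ Y, ∃ w ∈ O (Q.comp W.subtype), glue hc w u ∈ E Q) :
    Nat.card Y * Nat.card (kerW Q hc) ≤ Nat.card (prs Q hc Y) := by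
  rw [← Nat.card_prod]
  have key : ∀ u : Y, ∃ w ∈ O (Q.comp W.subtype), glue hc w (u : U ≃ₗ[F] U) ∈ E Q := fun u =>
    hex u u.2
  choose f hf hfE using key
  apply Nat.card_le_card_of_injective (fun p : Y × kerW Q hc =>
    (⟨((p.2 : W ≃ₗ[F] W) * f p.1, (p.1 : U ≃ₗ[F] U)), mul_mem p.2.2.1 (hf _), p.1.2, by
      have : glue hc ((p.2 : W ≃ₗ[F] W) * f p.1) (p.1 : U ≃ₗ[F] U) =
          glueL hc (p.2 : W ≃ₗ[F] W) * glue hc (f p.1) (p.1 : U ≃ₗ[F] U) := by
        rw [glueL_apply, ← glue_mul, one_mul]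
      show glue hc ((p.2 : W ≃ₗ[F] W) * f p.1) (p.1 : U ≃ₗ[F] U) ∈ E Q
      rw [this]
      exact mul_mem p.2.2.2 (hfE _)⟩ : prs Q hc Y))
  rintro ⟨u, k⟩ ⟨u', k'⟩ e
  have e0 : ((k : W ≃ₗ[F] W) * f u, (u : U ≃ₗ[F] U)) = ((k' : W ≃ₗ[F] W) * f u', (u' : U ≃ₗ[F] U)) :=
    congrArg Subtype.val e
  have e1 : (u : U ≃ₗ[F] U) = u' := congrArg Prod.snd e0
  have e2 : (k : W ≃ₗ[F] W) * f u = k' * f u' := congrArg Prod.fst e0
  have e3 : u = u' := Subtype.ext e1
  subst e3
  exact Prod.ext rfl (Subtype.ext (mul_right_cancel e2))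

/-- **Counting lemma**: the elements of `E Q` conjugate to `glue w u`, `w ∈ O(W)`, `u ∈ Y`. -/
theorem card_le [Finite F] [Module.Finite F V] (hQ : Nondeg Q) (h : Split Q W U) (hc : IsCompl W U)
    (Y : Set (U ≃ₗ[F] U)) (hex : ∀ u ∈ Y, ∃ w ∈ O (Q.comp W.subtype), glue hc w u ∈ E Q)
    (hTI : ∀ g ∈ O Q, ∀ p ∈ prs Q hc Y, ∀ p' ∈ prs Q hc Y,
      g * glue hc p.1 p.2 * g⁻¹ = glue hc p'.1 p'.2 → _root_.Cfsg.Agent.H847.Bs.Inv g W) :
    Nat.card (E Q) * Nat.card Y ≤
      Nat.card (conjs Q hc (prs Q hc Y)) * Nat.card (O (Q.comp U.subtype)) := by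
  have h1 := card_conjs hQ h hc _ hTI
  have h2 := card_kerW h hc
  have h3 := card_prs hc Y hex
  have hpos : 0 < Nat.card (O (Q.comp W.subtype)) := Nat.card_pos
  apply Nat.le_of_mul_le_mul_left _ hpos
  calc Nat.card (O (Q.comp W.subtype)) * (Nat.card (E Q) * Nat.card Y)
      = (Nat.card (O (Q.comp W.subtype)) * Nat.card (E Q)) * Nat.card Y := by ring
    _ ≤ (Nat.card (kerW Q hc) * Nat.card (O Q)) * Nat.card Y := Nat.mul_le_mul_right _ h2
    _ = Nat.card (O Q) * (Nat.card Y * Nat.card (kerW Q hc)) := by ring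
    _ ≤ Nat.card (O Q) * Nat.card (prs Q hc Y) := Nat.mul_le_mul_left _ h3
    _ ≤ _ := h1
    _ = _ := by ring

theorem conjs_prs_subset (hc : IsCompl W U) (Y : Set (U ≃ₗ[F] U)) :
    conjs Q hc (prs Q hc Y) ⊆ E Q := by
  rintro _ ⟨g, hg, p, hp, rfl⟩
  exact conj_mem_E hg hp.2.2

end

end Cfsg.Agent.H380.Bs
end

-- part: H380/Bs/Geo
section
/-!
S5733, orthogonal groups: nondegenerate subspaces of plus and minus type of given even dimension.
-/

set_option autoImplicit false

namespace Cfsg.Agent.H380.Bs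

open QuadraticMap Cfsg.Agent.LieClassical.OrthCore Cfsg.Agent.LieClassical.OrthTrans
  Cfsg.Agent.LieClassical.OrthFinite Cfsg.Agent.H885.Nondeg Cfsg.Agent.H885.NondegGeo
open Cfsg.Agent.H885.Irr (NdOn)
open Cfsg.Agent.H847.Bs (Inv Frm glue frmQ nQ PlusT slV)

variable {F V : Type*} [Field F] [AddCommGroup V] [Module F V] {Q : QuadraticForm F V}

theorem hyp_in [Finite F] [Module.Finite F V] {X : Submodule F V} (hX : NdOn Q X)
    (h3 : 3 ≤ Module.finrank F X) : ∃ x ∈ X, ∃ y ∈ X, Hyp Q x y := by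
  obtain ⟨w, hw, hw0, hQw⟩ := exists_sing_mem (Q := Q) X h3
  have hnd : Nondeg (Q.comp X.subtype) := nondeg_comp hX
  obtain ⟨y, hy⟩ := Cfsg.Agent.LieClassical.OrthTrans.exists_hyp (Q := Q.comp X.subtype) (x := ⟨w, hw⟩) hnd hQw
    (fun h => hw0 (congrArg Subtype.val h))
  exact ⟨w, hw, y, y.2, ⟨hQw, hy.right, hy.pair⟩⟩

theorem polar_of_zero {A : Submodule F V} (hA : ∀ a ∈ A, Q a = 0) {a b : V} (ha : a ∈ A)
    (hb : b ∈ A) : polar Q a b = 0 := by
  rw [polar, hA _ (A.add_mem ha hb), hA _ ha, hA _ hb]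
  ring

theorem finrank_pair {x y : V} (h : Hyp Q x y) : Module.finrank F (Submodule.span F {x, y}) = 2 := by
  have hli : LinearIndependent F ![x, y] := by
    rw [LinearIndependent.pair_iff]
    intro s t e
    have h1 : polar Q x (s • x + t • y) = t := by
      rw [polar_add_right, polar_smul_right, polar_smul_right, h.polar_left, h.pair]
      simp
    have h2 : polar Q y (s • x + t • y) = s := by
      rw [polar_add_right, polar_smul_right, polar_smul_right, h.polar_right, h.pair']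
      simp
    rw [e, polar_zero_right] at h1 h2
    exact ⟨h2.symm, h1.symm⟩
  have h1 := finrank_span_eq_card hli
  have e : Set.range ![x, y] = {x, y} := by
    ext v
    simp [eq_comm]
    (clear * -; tauto)
  rw [e] at h1
  rw [h1]
  simp

theorem exists_chain [Finite F] [Module.Finite F V] (hQ : Nondeg Q) {P : Submodule F V}
    (hP : NdOn Q P) (w : ℕ)
    (hw : ∀ A : Submodule F V, A ≤ P → (∀ a ∈ A, Q a = 0) → Module.finrank F A ≤ w) :
    ∀ m : ℕ, Module.finrank F P + 2 * m + 1 ≤ Module.finrank F V →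
      ∃ D : Submodule F V, P ≤ D ∧ NdOn Q D ∧ Module.finrank F D = Module.finrank F P + 2 * m ∧
        (∀ A : Submodule F V, A ≤ D → (∀ a ∈ A, Q a = 0) → Module.finrank F A ≤ w + m) ∧
        ∃ A : Submodule F V, A ≤ D ∧ (∀ a ∈ A, Q a = 0) ∧ Module.finrank F A = m := by
  intro m
  induction m with
  | zero =>
    intro _
    refine ⟨P, le_rfl, hP, by simp, fun A hA h0 => by simpa using hw A hA h0, ⊥, bot_le, ?_, by simp⟩
    intro a ha
    rw [Submodule.mem_bot] at ha
    rw [ha, QuadraticMap.map_zero]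
  | succ m ih =>
    intro hm
    obtain ⟨D, hPD, hD, hfD, hupD, A, hAD, hA, hfA⟩ := ih (by omega)
    have hs := split_perp hD
    have hfs := hs.finrank hQ
    obtain ⟨x, hx, y, hy, hxy⟩ := hyp_in (hs.ndOn_right hQ) (by omega)
    have hDx : ∀ d ∈ D, polar Q d x = 0 := fun d hd => hx d hd
    have hDy : ∀ d ∈ D, polar Q d y = 0 := fun d hd => hy d hd
    set H : Submodule F V := Submodule.span F {x, y} with hH
    have hmemH : ∀ v ∈ H, ∃ a b : F, a • x + b • y = v := fun v hv => Submodule.mem_span_pair.1 hv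
    have hxH : x ∈ H := Submodule.subset_span (by simp)
    have hyH : y ∈ H := Submodule.subset_span (by simp)
    have hpx : ∀ (d : V) (a b : F), d ∈ D → polar Q (d + (a • x + b • y)) x = b := by
      intro d a b hd
      rw [polar_add_left, hDx d hd, polar_add_left, polar_smul_left, polar_smul_left,
        hxy.polar_left, hxy.pair']
      simp
    have hpy : ∀ (d : V) (a b : F), d ∈ D → polar Q (d + (a • x + b • y)) y = a := by
      intro d a b hd
      rw [polar_add_left, hDy d hd, polar_add_left, polar_smul_left, polar_smul_left,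
        hxy.polar_right, hxy.pair]
      simp
    have hmem : ∀ v ∈ D ⊔ H, ∃ d ∈ D, ∃ a b : F, d + (a • x + b • y) = v := by
      intro v hv
      obtain ⟨d, hd, h, hh, e⟩ := Submodule.mem_sup.1 hv
      obtain ⟨a, b, e'⟩ := hmemH h hh
      exact ⟨d, hd, a, b, by rw [e', e]⟩
    refine ⟨D ⊔ H, hPD.trans le_sup_left, ?_, ?_, ?_, ?_⟩
    · -- nondegenerate
      intro v hv hall
      obtain ⟨d, hd, a, b, rfl⟩ := hmem v hv
      have h1 := hall x (Submodule.mem_sup_right hxH)
      have h2 := hall y (Submodule.mem_sup_right hyH)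
      rw [hpx d a b hd] at h1
      rw [hpy d a b hd] at h2
      subst h1 h2
      rw [zero_smul, zero_smul, add_zero, add_zero] at hall ⊢
      exact hD d hd fun z hz => hall z (Submodule.mem_sup_left hz)
    · -- dimension
      have h1 := Submodule.finrank_sup_add_finrank_inf_eq D H
      have h2 : D ⊓ H = ⊥ := by
        rw [eq_bot_iff]
        rintro v ⟨hvD, hvH⟩
        obtain ⟨a, b, rfl⟩ := hmemH v hvH
        have h3 := hpx 0 a b D.zero_mem
        have h4 := hpy 0 a b D.zero_mem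
        rw [zero_add, hDx _ hvD] at h3
        rw [zero_add, hDy _ hvD] at h4
        rw [← h3, ← h4]
        simp
      rw [h2, finrank_bot, finrank_pair hxy] at h1
      omega
    · -- upper bound for totally singular subspaces
      intro B hB hB0
      let L : V →ₗ[F] V := LinearMap.id - ((polarBilin Q y).smulRight x + (polarBilin Q x).smulRight y)
      have hL : ∀ v, L v = v - (polar Q y v • x + polar Q x v • y) := fun v => rfl
      have hLD : ∀ v ∈ B, L v ∈ D := by
        intro v hv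
        obtain ⟨d, hd, a, b, rfl⟩ := hmem v (hB hv)
        rw [hL, polar_comm Q y, polar_comm Q x, hpx d a b hd, hpy d a b hd, add_sub_cancel_right]
        exact hd
      let B1 : Submodule F V := B ⊓ LinearMap.ker (polarBilin Q x)
      have hB1 : ∀ v ∈ B1, v ∈ B ∧ polar Q x v = 0 := fun v hv => ⟨hv.1, LinearMap.mem_ker.1 hv.2⟩
      let B2 : Submodule F V := B1.map L
      have hB2D : B2 ≤ D := by
        rintro _ ⟨v, hv, rfl⟩
        exact hLD v hv.1
      have hB2Q : ∀ a ∈ B2, Q a = 0 := by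
        rintro _ ⟨v, hv, rfl⟩
        have h1 := hB1 v hv
        rw [hL, h1.2, zero_smul, add_zero, sub_eq_add_neg, ← neg_smul, Q_add, hB0 v h1.1,
          QuadraticMap.map_smul, hxy.left, polar_smul_right, polar_comm Q v x, h1.2]
        simp
      have hb := hupD B2 hB2D hB2Q
      have hfin1 : Module.finrank F B ≤ Module.finrank F B1 + 1 := by
        let f : B →ₗ[F] F := (polarBilin Q x).comp B.subtype
        have h1 := LinearMap.finrank_range_add_finrank_ker f
        have h2 : Module.finrank F (LinearMap.range f) ≤ 1 := by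
          refine (Submodule.finrank_le _).trans ?_
          simp
        have h3 : Module.finrank F (LinearMap.ker f) = Module.finrank F B1 := by
          have e : B1 = (LinearMap.ker f).map B.subtype := by
            ext v
            constructor
            · rintro ⟨h4, h5⟩
              exact ⟨⟨v, h4⟩, h5, rfl⟩
            · rintro ⟨u, h4, rfl⟩
              exact ⟨u.2, h4⟩
          rw [e, Submodule.finrank_map_subtype_eq]
        omega
      have hfin2 : Module.finrank F B1 ≤ Module.finrank F B2 + Module.finrank F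
          (LinearMap.ker (L.comp B1.subtype)) := by
        have h1 := LinearMap.finrank_range_add_finrank_ker (L.comp B1.subtype)
        have h2 : LinearMap.range (L.comp B1.subtype) = B2 := by
          rw [LinearMap.range_comp, Submodule.range_subtype]
        rw [h2] at h1
        omega
      have hker : ∀ u : B1, u ∈ LinearMap.ker (L.comp B1.subtype) → (u : V) = polar Q y u • x := by
        intro u hu
        have h1 : L (u : V) = 0 := hu
        rw [hL, (hB1 u u.2).2, zero_smul, add_zero, sub_eq_zero] at h1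
        exact h1
      by_cases hxB : x ∈ B
      · have h1 : B1 = B := by
          apply le_antisymm inf_le_left
          intro v hv
          exact ⟨hv, LinearMap.mem_ker.2 (polar_of_zero hB0 hxB hv)⟩
        have h2 : Module.finrank F (LinearMap.ker (L.comp B1.subtype)) ≤ 1 := by
          have hx1 : x ∈ B1 := by rw [h1]; exact hxB
          have h3 : LinearMap.ker (L.comp B1.subtype) ≤ Submodule.span F {(⟨x, hx1⟩ : B1)} := by
            intro u hu
            rw [Submodule.mem_span_singleton]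
            exact ⟨polar Q y u, Subtype.ext (hker u hu).symm⟩
          have h4 : (⟨x, hx1⟩ : B1) ≠ 0 := fun h => hxy.left_ne (congrArg Subtype.val h)
          exact (Submodule.finrank_mono h3).trans (finrank_span_singleton h4).le
        rw [h1] at hfin2 h2
        omega
      · have h2 : LinearMap.ker (L.comp B1.subtype) = ⊥ := by
          rw [eq_bot_iff]
          intro u hu
          have h3 := hker u hu
          by_cases hc : polar Q y (u : V) = 0
          · rw [hc, zero_smul] at h3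
            exact Subtype.ext h3
          · exfalso
            apply hxB
            have h4 : x = (polar Q y (u : V))⁻¹ • (u : V) := by
              rw [h3, polar_smul_right, hxy.pair', smul_smul]
              have h5 : polar Q y (u : V) ≠ 0 := hc
              rw [smul_eq_mul, mul_one, inv_mul_cancel₀ h5, one_smul]
            rw [h4]
            exact B.smul_mem _ u.2.1
        rw [h2, finrank_bot] at hfin2
        omega
    · -- lower bound
      have hxD : x ∉ D := by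
        intro h
        have := hDy x h
        rw [hxy.pair] at this
        exact one_ne_zero this
      refine ⟨A ⊔ Submodule.span F {x}, sup_le (hAD.trans le_sup_left)
        (le_trans (by rw [Submodule.span_singleton_le_iff_mem]; exact hxH) le_sup_right), ?_, ?_⟩
      · intro a ha
        obtain ⟨b, hb, c, hc, rfl⟩ := Submodule.mem_sup.1 ha
        obtain ⟨t, rfl⟩ := Submodule.mem_span_singleton.1 hc
        rw [Q_add, hA b hb, QuadraticMap.map_smul, hxy.left, polar_smul_right, hDx b (hAD hb)]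
        simp
      · have h1 := Submodule.finrank_sup_add_finrank_inf_eq A (Submodule.span F {x})
        have h2 : A ⊓ Submodule.span F {x} = ⊥ := by
          rw [eq_bot_iff]
          rintro v ⟨hvA, hvx⟩
          obtain ⟨t, rfl⟩ := Submodule.mem_span_singleton.1 hvx
          by_cases ht : t = 0
          · rw [ht, zero_smul]; exact Submodule.zero_mem _
          · exfalso
            apply hxD
            have := D.smul_mem t⁻¹ (hAD hvA)
            rwa [smul_smul, inv_mul_cancel₀ ht, one_smul] at this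
        rw [h2, finrank_bot, finrank_span_singleton hxy.left_ne, hfA] at h1
        omega

theorem finrank_comap_of_le [Module.Finite F V] {A D : Submodule F V} (h : A ≤ D) :
    Module.finrank F (A.comap D.subtype) = Module.finrank F A := by
  have h1 : (A.comap D.subtype).map D.subtype = A := by
    rw [Submodule.map_comap_subtype, inf_eq_right.2 h]
  rw [← Submodule.finrank_map_subtype_eq D (A.comap D.subtype), h1]

/-- A nondegenerate subspace of plus type of any even dimension `< dim V`. -/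
theorem exists_plus [Finite F] [Module.Finite F V] (hQ : Nondeg Q) (m : ℕ)
    (hm : 2 * m + 1 ≤ Module.finrank F V) :
    ∃ D : Submodule F V, NdOn Q D ∧ Module.finrank F D = 2 * m ∧ PlusT (Q.comp D.subtype) := by
  obtain ⟨D, -, hD, hfD, -, A, hAD, hA, hfA⟩ := exists_chain hQ (P := (⊥ : Submodule F V))
    (fun x hx _ => (Submodule.mem_bot F).1 hx) 0 (fun A hA _ => by
      rw [le_bot_iff.1 hA, finrank_bot]) m (by rw [finrank_bot]; omega)
  rw [finrank_bot, zero_add] at hfD
  refine ⟨D, hD, hfD, A.comap D.subtype, ⟨?_, ?_⟩, ?_⟩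
  · intro x hx y hy
    exact polar_of_zero hA (show (x : V) ∈ A from hx) (show (y : V) ∈ A from hy)
  · intro x hx
    exact hA _ hx
  · rw [finrank_comap_of_le hAD, hfA, hfD]

/-- the coefficients of an irreducible quadratic polynomial -/
theorem exists_irr_quad (F : Type*) [Field F] [Finite F] :
    ∃ s c : F, (∀ t : F, t * t + s * t + c ≠ 0) ∧ 4 * c - s * s ≠ 0 := by
  by_cases h2 : (2 : F) = 0
  · -- `t ↦ t² + t` is not injective
    have hni : ¬ Function.Injective (fun t : F => t * t + t) := by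
      intro h
      have : (0 : F) = 1 := h (by
        show (0 : F) * 0 + 0 = 1 * 1 + 1
        rw [zero_mul, zero_add, one_mul, one_add_one_eq_two, h2])
      exact zero_ne_one this
    have hns : ¬ Function.Surjective (fun t : F => t * t + t) := fun h =>
      hni (Finite.injective_iff_surjective.2 h)
    rw [Function.Surjective] at hns
    push Not at hns
    obtain ⟨c, hc⟩ := hns
    refine ⟨1, c, fun t ht => ?_, ?_⟩
    · apply hc t
      have h3 : c + c = 0 := by rw [← two_mul, h2, zero_mul]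
      calc t * t + t = (t * t + 1 * t + c) - (c + c) + c := by ring
        _ = c := by rw [ht, h3]; ring
    · have h4 : (4 : F) = 0 := by
        have : (4 : F) = 2 * 2 := by norm_num
        rw [this, h2, zero_mul]
      rw [h4]
      simp
  · have hni : ¬ Function.Injective (fun t : F => t * t) := by
      intro h
      have h1 : (1 : F) = -1 := h (by show (1 : F) * 1 = -1 * -1; ring)
      apply h2
      have : (2 : F) = 1 + 1 := by norm_num
      rw [this]
      nth_rewrite 1 [h1]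
      ring
    have hns : ¬ Function.Surjective (fun t : F => t * t) := fun h =>
      hni (Finite.injective_iff_surjective.2 h)
    rw [Function.Surjective] at hns
    push Not at hns
    obtain ⟨c, hc⟩ := hns
    refine ⟨0, -c, fun t ht => ?_, ?_⟩
    · apply hc t
      calc t * t = (t * t + 0 * t + -c) + c := by ring
        _ = c := by rw [ht]; ring
    · intro h
      have h4 : (4 : F) ≠ 0 := by
        have : (4 : F) = 2 * 2 := by norm_num
        rw [this]
        exact mul_ne_zero h2 h2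
      have h5 : c = 0 := by
        have h6 : 4 * c = 0 := by linear_combination -h
        exact (mul_eq_zero.1 h6).resolve_left h4
      exact hc 0 (by show (0 : F) * 0 = c; rw [h5, zero_mul])

/-- an anisotropic plane -/
theorem exists_aniso [Finite F] [Module.Finite F V] (hQ : Nondeg Q) (h5 : 5 ≤ Module.finrank F V) :
    ∃ P : Submodule F V, NdOn Q P ∧ Module.finrank F P = 2 ∧ ∀ v ∈ P, Q v = 0 → v = 0 := by
  obtain ⟨s, c, hsc, hdisc⟩ := exists_irr_quad F
  have hG := good_of_finite hQ h5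
  obtain ⟨x, y, hxy⟩ := hG.exists_hyp
  obtain ⟨z, w, hzw, hxz, hxw, hyz, hyw⟩ := hG.exists_hyp2 hxy
  set u : V := x + y with hu
  set v : V := s • y + (z + c • w) with hv
  have hQu : Q u = 1 := by
    rw [hu, Q_add, hxy.left, hxy.right, hxy.pair]; ring
  have hQv : Q v = c := by
    rw [hv, Q_add, QuadraticMap.map_smul, hxy.right, Q_add, hzw.left, QuadraticMap.map_smul,
      hzw.right, polar_smul_right, hzw.pair, polar_smul_left, polar_add_right, hyz,
      polar_smul_right, hyw]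
    simp
  have huv : polar Q u v = s := by
    rw [hu, hv, polar_add_left, polar_add_right, polar_add_right, polar_add_right, polar_add_right,
      polar_smul_right, polar_smul_right, polar_smul_right, polar_smul_right, hxy.pair, hxz, hxw,
      hxy.polar_right, hyz, hyw]
    simp
  have hcomb : ∀ a b : F, Q (a • u + b • v) = a * a + s * (a * b) + c * (b * b) := by
    intro a b
    rw [Q_add, QuadraticMap.map_smul, QuadraticMap.map_smul, polar_smul_left, polar_smul_right, hQu,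
      hQv, huv]
    simp only [smul_eq_mul]
    ring
  have han : ∀ a b : F, Q (a • u + b • v) = 0 → a = 0 ∧ b = 0 := by
    intro a b h
    rw [hcomb] at h
    by_cases hb : b = 0
    · subst hb
      have : a * a = 0 := by linear_combination h
      exact ⟨mul_self_eq_zero.1 this, rfl⟩
    · exfalso
      apply hsc (a * b⁻¹)
      have h1 : b * b⁻¹ = 1 := mul_inv_cancel₀ hb
      have h2 : a * b⁻¹ * (a * b⁻¹) + s * (a * b⁻¹) + c =
          (a * a + s * (a * b) + c * (b * b)) * (b⁻¹ * b⁻¹) +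
            (s * (a * b⁻¹) * (1 - b * b⁻¹) + c * (1 - (b * b⁻¹) * (b * b⁻¹))) := by ring
      rw [h2, h, h1]
      ring
  refine ⟨Submodule.span F {u, v}, ?_, ?_, ?_⟩
  · intro t ht hall
    obtain ⟨a, b, rfl⟩ := Submodule.mem_span_pair.1 ht
    have h1 := hall u (Submodule.subset_span (by simp))
    have h2 := hall v (Submodule.subset_span (by simp))
    rw [polar_add_left, polar_smul_left, polar_smul_left, polar_self', hQu, polar_comm Q v u, huv] at h1
    rw [polar_add_left, polar_smul_left, polar_smul_left, polar_self', hQv, huv] at h2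
    simp only [smul_eq_mul] at h1 h2
    have h3 : (4 * c - s * s) * b = 0 := by linear_combination 2 * h2 - s * h1
    have h4 : b = 0 := (mul_eq_zero.1 h3).resolve_left hdisc
    have h5' : (4 * c - s * s) * a = 0 := by linear_combination 2 * c * h1 - s * h2
    have h6 : a = 0 := (mul_eq_zero.1 h5').resolve_left hdisc
    rw [h4, h6]
    simp
  · have hli : LinearIndependent F ![u, v] := by
      rw [LinearIndependent.pair_iff]
      intro a b e
      apply han
      rw [e, QuadraticMap.map_zero]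
    have h1 := finrank_span_eq_card hli
    have e : Set.range ![u, v] = {u, v} := by
      ext v
      simp
      (clear * -; tauto)
    rw [e] at h1
    rw [h1]
    simp
  · intro t ht h0
    obtain ⟨a, b, rfl⟩ := Submodule.mem_span_pair.1 ht
    obtain ⟨ha, hb⟩ := han a b h0
    rw [ha, hb]
    simp

/-- A nondegenerate subspace of minus type of any even dimension `< dim V`. -/
theorem exists_minus [Finite F] [Module.Finite F V] (hQ : Nondeg Q) (m : ℕ) (hm1 : 1 ≤ m)
    (h5 : 5 ≤ Module.finrank F V) (hm : 2 * m + 1 ≤ Module.finrank F V) :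
    ∃ D : Submodule F V, NdOn Q D ∧ Module.finrank F D = 2 * m ∧ ¬ PlusT (Q.comp D.subtype) := by
  obtain ⟨P, hP, hfP, han⟩ := exists_aniso hQ h5
  obtain ⟨D, -, hD, hfD, hup, -⟩ := exists_chain hQ hP 0 (fun A hA h0 => by
      have : A = ⊥ := by
        rw [eq_bot_iff]
        intro a ha
        rw [Submodule.mem_bot]
        exact han a (hA ha) (h0 a ha)
      rw [this, finrank_bot]) (m - 1) (by rw [hfP]; omega)
  refine ⟨D, hD, by omega, ?_⟩
  rintro ⟨A, ⟨-, hA⟩, hfA⟩
  have h1 := hup (A.map D.subtype) (by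
    rintro _ ⟨a, -, rfl⟩
    exact a.2) (by
    rintro _ ⟨a, ha, rfl⟩
    exact hA a ha)
  rw [Submodule.finrank_map_subtype_eq] at h1
  omega

end Cfsg.Agent.H380.Bs
end

-- part: H380/Bs/Single
section
/-!
S5733, orthogonal groups: the elements of `E Q` with one small nondegenerate subspace containing all small invariant
subspaces (`med_one`), and with one large irreducible nondegenerate subspace (`large_one`).
-/

set_option autoImplicit false

namespace Cfsg.Agent.H380.Bs

open QuadraticMap Cfsg.Agent.LieClassical.OrthCore Cfsg.Agent.LieClassical.OrthTrans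
  Cfsg.Agent.LieClassical.OrthFinite Cfsg.Agent.H885.Nondeg Cfsg.Agent.H885.NondegGeo
open Cfsg.Agent.H885.Irr (NdOn)
open Cfsg.Agent.H847.Bs (Inv Frm glue frmQ nQ PlusT slV ar)

/-- BS12, as a hypothesis -/
def CountO (c : ℝ) (K₀ : ℕ) : Prop :=
  ∀ (F V : Type) [Field F] [Finite F] [AddCommGroup V] [Module F V] [Module.Finite F V]
    (Q : QuadraticForm F V), Nondeg Q → ∀ n K : ℕ, K₀ ≤ K → Module.finrank F V = 2 * n → K < n →
      c / (K + 1) * (Nat.card (O Q) : ℝ) ≤
        Nat.card {x : V ≃ₗ[F] V // x ∈ (frmQ Q).SS K (2 * n) ∧ x ∈ nQ Q}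

/-- BS08 (a), as a hypothesis -/
def CountMinus : Prop :=
  ∀ (F V : Type) [Field F] [Finite F] [AddCommGroup V] [Module F V] [Module.Finite F V]
    (Q : QuadraticForm F V), Nondeg Q → ¬ PlusT Q → ∀ j : ℕ, 1 ≤ j → Module.finrank F V = 2 * j →
      ar j / (2 * j) * (Nat.card (O Q) : ℝ) ≤ Nat.card {x : V ≃ₗ[F] V // x ∈ (frmQ Q).Bm ∧ x ∈ nQ Q}

section

variable {F V : Type*} [Field F] [AddCommGroup V] [Module F V]

theorem inv_conj {x g : V ≃ₗ[F] V} {Y : Submodule F V} (h : _root_.Cfsg.Agent.H847.Bs.Inv x Y) :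
    _root_.Cfsg.Agent.H847.Bs.Inv (g * x * g⁻¹) (Y.map (g : V →ₗ[F] V)) := by
  rintro _ ⟨v, hv, rfl⟩
  refine ⟨x v, h v hv, ?_⟩
  show g (x v) = g (x (g⁻¹ (g v)))
  rw [show g⁻¹ (g v) = v from g.symm_apply_apply v]

theorem map_inv_map (g : V ≃ₗ[F] V) (Y : Submodule F V) :
    (Y.map (g⁻¹ : V ≃ₗ[F] V).toLinearMap).map (g : V →ₗ[F] V) = Y := by
  ext v
  constructor
  · rintro ⟨_, ⟨w, hw, rfl⟩, rfl⟩
    show g (g⁻¹ w) ∈ Y
    rw [show g (g⁻¹ w) = w from g.apply_symm_apply w]
    exact hw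
  · intro hv
    exact ⟨g⁻¹ v, ⟨v, hv, rfl⟩, g.apply_symm_apply v⟩

theorem inv_conj' {x g : V ≃ₗ[F] V} {Y : Submodule F V} (h : _root_.Cfsg.Agent.H847.Bs.Inv (g * x * g⁻¹) Y) :
    _root_.Cfsg.Agent.H847.Bs.Inv x (Y.map (g⁻¹ : V ≃ₗ[F] V).toLinearMap) := by
  have h1 := inv_conj (g := g⁻¹) h
  have h2 : g⁻¹ * (g * x * g⁻¹) * g⁻¹⁻¹ = x := by group
  rwa [h2] at h1

theorem le_map_of_map_inv_le {g : V ≃ₗ[F] V} {Y W : Submodule F V}
    (h : Y.map (g⁻¹ : V ≃ₗ[F] V).toLinearMap ≤ W) : Y ≤ W.map (g : V →ₗ[F] V) := by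
  rw [← map_inv_map g Y]
  exact Submodule.map_mono h

theorem finrank_map (g : V ≃ₗ[F] V) (Y : Submodule F V) :
    Module.finrank F (Y.map (g : V →ₗ[F] V)) = Module.finrank F Y :=
  LinearEquiv.finrank_map_eq g Y

end

section

variable {F V : Type*} [Field F] [AddCommGroup V] [Module F V] {Q : QuadraticForm F V}
  {W U : Submodule F V}

theorem ndOn_map {g : V ≃ₗ[F] V} (hg : g ∈ O Q) (hW : NdOn Q W) :
    NdOn Q (W.map (g : V →ₗ[F] V)) := by
  rintro _ ⟨w, hw, rfl⟩ hall
  have h0 : w = 0 := by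
    apply hW w hw
    intro z hz
    have h1 := hall (g z) ⟨z, hz, rfl⟩
    have h2 : polar Q (g w) (g z) = 0 := h1
    rwa [polar_map hg] at h2
  rw [h0, map_zero]

/-- the restriction of `SS K` to the left part: small invariant subspaces of `glue w u` lie in `W` -/
theorem le_left_of_small [Module.Finite F V] (hc : IsCompl W U) {w : W ≃ₗ[F] W} {u : U ≃ₗ[F] U}
    {K : ℕ} (hu : ∀ Y : Submodule F U, _root_.Cfsg.Agent.H847.Bs.Inv u Y → Y ≠ ⊥ → K < Module.finrank F Y)
    {Y : Submodule F V} (hY : _root_.Cfsg.Agent.H847.Bs.Inv (glue hc w u) Y) (hK : Module.finrank F Y ≤ K) : Y ≤ W := by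
  apply le_of_proj_eq_bot hc
  by_contra hne
  have h1 := hu _ (inv_proj hc hY) hne
  have h2 := finrank_proj_le hc Y
  omega

end

section

variable {F V : Type} [Field F] [AddCommGroup V] [Module F V] {Q : QuadraticForm F V}

theorem med_one {c : ℝ} {K₀ : ℕ} (hC : CountO c K₀) [Finite F] [Module.Finite F V] (hQ : Nondeg Q)
    {K t m : ℕ} (hK : K₀ ≤ K) (ht : 3 ≤ t) (htK : t ≤ K) (hd : Module.finrank F V = t + 2 * m)
    (hKm : K < m) :
    ∃ S : Set (V ≃ₗ[F] V), S ⊆ E Q ∧ c / (K + 1) * (Nat.card (E Q) : ℝ) ≤ Nat.card S ∧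
      ∀ x ∈ S, ∃ W : Submodule F V, NdOn Q W ∧ Module.finrank F W = t ∧ _root_.Cfsg.Agent.H847.Bs.Inv x W ∧
        ∀ Y : Submodule F V, _root_.Cfsg.Agent.H847.Bs.Inv x Y → Module.finrank F Y ≤ K → Y ≤ W := by
  have hG := good_of_finite hQ (by omega : 5 ≤ Module.finrank F V)
  obtain ⟨U, hU, hfU, -⟩ := exists_plus hQ m (by omega)
  have hs : Split Q (perp Q U) U := (split_perp hU).symm
  set W := perp Q U with hW
  have hc := Split.isCompl hs hQ
  have hfW := hs.finrank hQ
  have hWnd := hs.ndOn_left hQ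
  have hH := hyp_in hWnd (by omega)
  let Y : Set (U ≃ₗ[F] U) := {u | u ∈ (frmQ (Q.comp U.subtype)).SS K (2 * m) ∧ u ∈ nQ (Q.comp U.subtype)}
  have hYO : Y ⊆ O (Q.comp U.subtype) := fun u hu => by
    rw [← iso_frmQ]; exact hu.1.1
  have hTI : ∀ g ∈ O Q, ∀ p ∈ prs Q hc Y, ∀ p' ∈ prs Q hc Y,
      g * glue hc p.1 p.2 * g⁻¹ = glue hc p'.1 p'.2 → _root_.Cfsg.Agent.H847.Bs.Inv g W := by
    intro g hg p hp p' hp' e
    have h1 := inv_conj (g := g) (inv_glue_left hc p.1 p.2)
    rw [e] at h1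
    have h2 := le_left_of_small hc hp'.2.1.1.2.1 h1 (by rw [finrank_map]; omega)
    intro v hv
    exact h2 ⟨v, hv, rfl⟩
  have h1 := card_le hQ hs hc Y (fun u hu => exists_glue_mem_E hG hs hc hH (hYO hu)) hTI
  have h2 := hC F U (Q.comp U.subtype) (nondeg_comp hU) m K hK hfU hKm
  refine ⟨conjs Q hc (prs Q hc Y), conjs_prs_subset hc Y, ?_, ?_⟩
  · have hpos : (0 : ℝ) < Nat.card (O (Q.comp U.subtype)) := by
      exact_mod_cast Nat.card_pos
    have h3 : ((Nat.card (E Q) * Nat.card Y : ℕ) : ℝ) ≤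
        ((Nat.card (conjs Q hc (prs Q hc Y)) * Nat.card (O (Q.comp U.subtype)) : ℕ) : ℝ) := by
      exact_mod_cast h1
    push_cast at h3
    have h4 : c / (K + 1) * (Nat.card (O (Q.comp U.subtype)) : ℝ) ≤ (Nat.card Y : ℝ) := h2
    have h5 : (0 : ℝ) ≤ Nat.card (E Q) := Nat.cast_nonneg _
    have h6 : c / (K + 1) * (Nat.card (E Q) : ℝ) * Nat.card (O (Q.comp U.subtype)) ≤
        Nat.card (conjs Q hc (prs Q hc Y)) * Nat.card (O (Q.comp U.subtype)) := by
      calc c / (K + 1) * (Nat.card (E Q) : ℝ) * Nat.card (O (Q.comp U.subtype))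
          = (Nat.card (E Q) : ℝ) * (c / (K + 1) * (Nat.card (O (Q.comp U.subtype)) : ℝ)) := by ring
        _ ≤ (Nat.card (E Q) : ℝ) * Nat.card Y := mul_le_mul_of_nonneg_left h4 h5
        _ ≤ _ := h3
    exact le_of_mul_le_mul_right h6 hpos
  · rintro _ ⟨g, hg, p, hp, rfl⟩
    refine ⟨W.map (g : V →ₗ[F] V), ndOn_map hg hWnd, by rw [finrank_map]; omega,
      inv_conj (inv_glue_left hc p.1 p.2), ?_⟩
    intro Z hZ hfZ
    apply le_map_of_map_inv_le
    apply le_left_of_small hc hp.2.1.1.2.1 (inv_conj' hZ)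
    rw [finrank_map]
    exact hfZ

theorem large_one (hC : CountMinus) [Finite F] [Module.Finite F V] (hQ : Nondeg Q) {d : ℕ}
    (hd1 : 1 ≤ d) (hd2 : 2 * d + 3 ≤ Module.finrank F V) (hd3 : Module.finrank F V < 4 * d) :
    ∃ S : Set (V ≃ₗ[F] V), S ⊆ E Q ∧ ar d / (2 * d) * (Nat.card (E Q) : ℝ) ≤ Nat.card S ∧
      ∀ x ∈ S, ∃ D W : Submodule F V, NdOn Q W ∧ Module.finrank F W + 2 * d = Module.finrank F V ∧
        Module.finrank F D = 2 * d ∧ _root_.Cfsg.Agent.H847.Bs.Inv x D ∧ (∀ Y : Submodule F V, Y ≤ D → _root_.Cfsg.Agent.H847.Bs.Inv x Y → Y = ⊥ ∨ Y = D) ∧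
        ∀ Y : Submodule F V, _root_.Cfsg.Agent.H847.Bs.Inv x Y → Module.finrank F Y < 2 * d → Y ≤ W := by
  have hG := good_of_finite hQ (by omega : 5 ≤ Module.finrank F V)
  obtain ⟨U, hU, hfU, hmin⟩ := exists_minus hQ d hd1 (by omega) (by omega)
  have hs : Split Q (perp Q U) U := (split_perp hU).symm
  set W := perp Q U with hW
  have hc := Split.isCompl hs hQ
  have hfW := hs.finrank hQ
  have hWnd := hs.ndOn_left hQ
  have hH := hyp_in hWnd (by omega)
  let Y : Set (U ≃ₗ[F] U) := {u | u ∈ (frmQ (Q.comp U.subtype)).Bm ∧ u ∈ nQ (Q.comp U.subtype)}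
  have hYO : Y ⊆ O (Q.comp U.subtype) := fun u hu => by
    rw [← iso_frmQ]; exact hu.1.1
  -- irreducibility of `U`
  have hirr : ∀ p ∈ prs Q hc Y, ∀ Z : Submodule F V, Z ≤ U → _root_.Cfsg.Agent.H847.Bs.Inv (glue hc p.1 p.2) Z → Z = ⊥ ∨ Z = U := by
    intro p hp Z hZU hZ
    have h1 : _root_.Cfsg.Agent.H847.Bs.Inv p.2 (Z.comap U.subtype) := by
      intro v hv
      show ((p.2 v : U) : V) ∈ Z
      rw [← glue_right hc p.1 p.2]
      exact hZ _ hv
    have h2 : (Z.comap U.subtype).map U.subtype = Z := by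
      rw [Submodule.map_comap_subtype, inf_eq_right.2 hZU]
    rcases hp.2.1.1.2.min _ le_top h1 with h | h
    · left
      rw [← h2, h, Submodule.map_bot]
    · right
      rw [← h2, h, Submodule.map_subtype_top]
  have hsmall : ∀ p ∈ prs Q hc Y, ∀ Z : Submodule F V, _root_.Cfsg.Agent.H847.Bs.Inv (glue hc p.1 p.2) Z →
      Module.finrank F Z < 2 * d → Z ≤ W := by
    intro p hp Z hZ hfZ
    apply le_of_proj_eq_bot hc
    rcases hp.2.1.1.2.min _ le_top (inv_proj hc hZ) with h | h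
    · exact h
    · exfalso
      have h1 := finrank_proj_le hc Z
      rw [h, finrank_top] at h1
      omega
  have hTI : ∀ g ∈ O Q, ∀ p ∈ prs Q hc Y, ∀ p' ∈ prs Q hc Y,
      g * glue hc p.1 p.2 * g⁻¹ = glue hc p'.1 p'.2 → _root_.Cfsg.Agent.H847.Bs.Inv g W := by
    intro g hg p hp p' hp' e
    have h1 := inv_conj (g := g) (inv_glue_right hc p.1 p.2)
    rw [e] at h1
    have h2 : _root_.Cfsg.Agent.H847.Bs.Inv (glue hc p'.1 p'.2) (U.map (g : V →ₗ[F] V) ⊓ U) := by
      intro v hv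
      exact ⟨h1 v hv.1, inv_glue_right hc p'.1 p'.2 v hv.2⟩
    have hgU : _root_.Cfsg.Agent.H847.Bs.Inv g U := by
      rcases hirr p' hp' _ inf_le_right h2 with h | h
      · exfalso
        have h3 := Submodule.finrank_sup_add_finrank_inf_eq (U.map (g : V →ₗ[F] V)) U
        have h4 := Submodule.finrank_le (U.map (g : V →ₗ[F] V) ⊔ U)
        rw [h, finrank_bot, finrank_map] at h3
        omega
      · have h3 : U ≤ U.map (g : V →ₗ[F] V) := by
          intro v hv
          have h5 : v ∈ U.map (g : V →ₗ[F] V) ⊓ U := by rw [h]; exact hv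
          exact h5.1
        have h4 : U = U.map (g : V →ₗ[F] V) :=
          Submodule.eq_of_le_of_finrank_eq h3 (finrank_map g U).symm
        intro v hv
        have : g v ∈ U.map (g : V →ₗ[F] V) := ⟨v, hv, rfl⟩
        rwa [← h4] at this
    exact Split.inv_right hs.symm hQ hg hgU
  have h1 := card_le hQ hs hc Y (fun u hu => exists_glue_mem_E hG hs hc hH (hYO hu)) hTI
  have h2 := hC F U (Q.comp U.subtype) (nondeg_comp hU) hmin d hd1 hfU
  refine ⟨conjs Q hc (prs Q hc Y), conjs_prs_subset hc Y, ?_, ?_⟩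
  · have hpos : (0 : ℝ) < Nat.card (O (Q.comp U.subtype)) := by
      exact_mod_cast Nat.card_pos
    have h3 : ((Nat.card (E Q) * Nat.card Y : ℕ) : ℝ) ≤
        ((Nat.card (conjs Q hc (prs Q hc Y)) * Nat.card (O (Q.comp U.subtype)) : ℕ) : ℝ) := by
      exact_mod_cast h1
    push_cast at h3
    have h4 : ar d / (2 * d) * (Nat.card (O (Q.comp U.subtype)) : ℝ) ≤ (Nat.card Y : ℝ) := h2
    have h5 : (0 : ℝ) ≤ Nat.card (E Q) := Nat.cast_nonneg _
    have h6 : ar d / (2 * d) * (Nat.card (E Q) : ℝ) * Nat.card (O (Q.comp U.subtype)) ≤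
        Nat.card (conjs Q hc (prs Q hc Y)) * Nat.card (O (Q.comp U.subtype)) := by
      calc ar d / (2 * d) * (Nat.card (E Q) : ℝ) * Nat.card (O (Q.comp U.subtype))
          = (Nat.card (E Q) : ℝ) * (ar d / (2 * d) * (Nat.card (O (Q.comp U.subtype)) : ℝ)) := by ring
        _ ≤ (Nat.card (E Q) : ℝ) * Nat.card Y := mul_le_mul_of_nonneg_left h4 h5
        _ ≤ _ := h3
    exact le_of_mul_le_mul_right h6 hpos
  · rintro _ ⟨g, hg, p, hp, rfl⟩
    refine ⟨U.map (g : V →ₗ[F] V), W.map (g : V →ₗ[F] V), ndOn_map hg hWnd, ?_, ?_,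
      inv_conj (inv_glue_right hc p.1 p.2), ?_, ?_⟩
    · rw [finrank_map]; omega
    · rw [finrank_map]; omega
    · intro Z hZU hZ
      have h3 : Z.map (g⁻¹ : V ≃ₗ[F] V).toLinearMap ≤ U := by
        rintro _ ⟨z, hz, rfl⟩
        obtain ⟨u, hu, e⟩ := hZU hz
        rw [← e]
        show g⁻¹ (g u) ∈ U
        rw [show g⁻¹ (g u) = u from g.symm_apply_apply u]
        exact hu
      rcases hirr p hp _ h3 (inv_conj' hZ) with h | h
      · left
        rw [← map_inv_map g Z, h, Submodule.map_bot]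
      · right
        rw [← map_inv_map g Z, h]
    · intro Z hZ hfZ
      apply le_map_of_map_inv_le
      apply hsmall p hp _ (inv_conj' hZ)
      rw [finrank_map]
      exact hfZ

end

end Cfsg.Agent.H380.Bs
end

-- part: H380/Bs/Small
section
/-!
S5733, orthogonal groups: many elements of `E Q` without invariant subspaces of dimension at most 7 (even-dimensional spaces),
respectively with at most one such subspace, of prescribed type (odd-dimensional spaces, odd characteristic).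
-/

set_option autoImplicit false

namespace Cfsg.Agent.H380.Bs

open QuadraticMap Cfsg.Agent.LieClassical.OrthCore Cfsg.Agent.LieClassical.OrthTrans
  Cfsg.Agent.LieClassical.OrthFinite Cfsg.Agent.H885.Nondeg Cfsg.Agent.H885.NondegGeo
open Cfsg.Agent.H885.Irr (NdOn)
open Cfsg.Agent.H847.Bs (Inv Frm glue frmQ nQ PlusT slV ar)
open Cfsg.Agent.H160.QSpin (spin cj cjEquiv IsIso)

/-- BS08 (c), as a hypothesis -/
def CountAdj : Prop :=
  ∀ (F V : Type) [Field F] [Finite F] [AddCommGroup V] [Module F V] [Module.Finite F V]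
    (Q : QuadraticForm F V), Nondeg Q → PlusT Q → (2 : F) ≠ 0 → ∀ j : ℕ, 8 ≤ j →
      Module.finrank F V = 2 * j →
      Nat.card (O Q) ≤ 16 * j * Nat.card {x : V ≃ₗ[F] V // x ∈ (frmQ Q).Bp ∧ x ∈ E Q} ∧
      Nat.card (O Q) ≤ 16 * j * Nat.card {x : V ≃ₗ[F] V // x ∈ (frmQ Q).Bp ∧ x ∈ slV F V ∧ x ∉ E Q}

section

variable {F V V' : Type*} [Field F] [AddCommGroup V] [Module F V] [AddCommGroup V'] [Module F V']

theorem cj_mem_E {Q : QuadraticForm F V} {Q' : QuadraticForm F V'} {e : V ≃ₗ[F] V'}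
    (he : IsIso Q Q' e) {g : V ≃ₗ[F] V} (hg : g ∈ E Q) : cj e g ∈ E Q' := by
  have key : E Q ≤ (E Q').comap (cjEquiv e).toMonoidHom := by
    rw [E, Subgroup.closure_le]
    rintro _ ⟨u, w, hu, hw, rfl⟩
    have hu' : Q' (e u) = 0 := by rw [he, hu]
    have hw' : polar Q' (e u) (e w) = 0 := by rw [he.polar, hw]
    have h1 : cj e (siegel Q u w hu hw) = siegel Q' (e u) (e w) hu' hw' := by
      ext v
      obtain ⟨v, rfl⟩ := e.surjective v
      rw [Cfsg.Agent.H160.QSpin.cj_apply', siegel_apply, siegel_apply, he.polar, he.polar, he]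
      simp
    show cj e (siegel Q u w hu hw) ∈ E Q'
    rw [h1]
    exact siegel_mem_E _ _
  exact key hg

variable [Module.Finite F V]

theorem mem_E_iff' [Finite F] [Finite V] {Q : QuadraticForm F V} (hG : Good Q) (h2 : (2 : F) ≠ 0)
    {g : V ≃ₗ[F] V} (hg : g ∈ O Q) : g ∈ E Q ↔ LinearEquiv.det g = 1 ∧ spin Q ⟨g, hg⟩ = 1 := by
  obtain ⟨Q', e, he⟩ := Cfsg.Agent.H160.QSpin.exists_iso_fin Q
  have hG' : Good Q' := by
    apply good_of_finite (he.nondeg hG.nondeg)
    rw [Module.finrank_fin_fun]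
    exact hG.dim
  have h1 : g ∈ E Q ↔ cj e g ∈ E Q' := by
    refine ⟨cj_mem_E he, fun h => ?_⟩
    have h3 := cj_mem_E he.symm h
    have h4 : cj e.symm (cj e g) = g := by
      ext v
      simp [Cfsg.Agent.H160.QSpin.cj_apply]
    rwa [h4] at h3
  rw [h1, Cfsg.Agent.FooteOrth.mem_E_iff hG' h2 (Cfsg.Agent.H160.QSpin.cj_mem_O he hg),
    Cfsg.Agent.H160.QSpin.det_cj, ← Cfsg.Agent.H160.QSpin.spin_eq_sg,
    Cfsg.Agent.H160.QSpin.spin_cj he hg]

theorem det_eq_or {Q : QuadraticForm F V} (hQ : Nondeg Q) {g : V ≃ₗ[F] V} (hg : g ∈ O Q) :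
    LinearEquiv.det g = 1 ∨ LinearEquiv.det g = -1 := by
  have h1 := Cfsg.Agent.H160.QSpin.det_sq hQ hg
  have h2 : ((LinearEquiv.det g : Fˣ) : F) * ((LinearEquiv.det g : Fˣ) : F) = 1 := by
    rw [← pow_two, ← Units.val_pow_eq_pow_val, h1, Units.val_one]
  rcases mul_self_eq_one_iff.1 h2 with h | h
  · left; apply Units.ext; rw [h, Units.val_one]
  · right; apply Units.ext; rw [h, Units.val_neg, Units.val_one]

theorem card_O_le [Finite F] {Q : QuadraticForm F V} (hG : Good Q) (h2 : (2 : F) ≠ 0) :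
    Nat.card (O Q) ≤ 4 * Nat.card (E Q) := by
  classical
  have : Finite V := Module.finite_of_finite F
  let f : O Q → ℤˣ × ℤˣ := fun g => (if LinearEquiv.det (g : V ≃ₗ[F] V) = 1 then 1 else -1, spin Q g)
  have hf : ∀ g g' : O Q, f g = f g' → ((g : V ≃ₗ[F] V))⁻¹ * (g' : V ≃ₗ[F] V) ∈ E Q := by
    intro g g' e
    have e1 : (if LinearEquiv.det (g : V ≃ₗ[F] V) = 1 then (1 : ℤˣ) else -1) =
      (if LinearEquiv.det (g' : V ≃ₗ[F] V) = 1 then (1 : ℤˣ) else -1) := congrArg Prod.fst e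
    have e2 : spin Q g = spin Q g' := congrArg Prod.snd e
    have hd : LinearEquiv.det (g : V ≃ₗ[F] V) = LinearEquiv.det (g' : V ≃ₗ[F] V) := by
      rcases det_eq_or hG.nondeg g.2 with h | h <;> rcases det_eq_or hG.nondeg g'.2 with h' | h'
      · rw [h, h']
      · rw [if_pos h] at e1
        by_cases h3 : LinearEquiv.det (g' : V ≃ₗ[F] V) = 1
        · rw [h, h3]
        · rw [if_neg h3] at e1
          exact absurd e1 (by decide)
      · rw [if_pos h'] at e1
        by_cases h3 : LinearEquiv.det (g : V ≃ₗ[F] V) = 1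
        · rw [h', h3]
        · rw [if_neg h3] at e1
          exact absurd e1 (by decide)
      · rw [h, h']
    have hm : ((g : V ≃ₗ[F] V))⁻¹ * (g' : V ≃ₗ[F] V) ∈ O Q := mul_mem (inv_mem g.2) g'.2
    rw [mem_E_iff' hG h2 hm]
    refine ⟨by rw [map_mul, map_inv, hd, inv_mul_cancel], ?_⟩
    have h3 : (⟨((g : V ≃ₗ[F] V))⁻¹ * (g' : V ≃ₗ[F] V), hm⟩ : O Q) = g⁻¹ * g' := rfl
    rw [h3, map_mul, map_inv, e2, inv_mul_cancel]
  have h4 : Nat.card (ℤˣ × ℤˣ) = 4 := by
    rw [Nat.card_eq_fintype_card]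
    decide
  rw [← h4, ← Nat.card_prod]
  let r : ℤˣ × ℤˣ → O Q := fun s => if h : ∃ g, f g = s then h.choose else 1
  have hr : ∀ g, f (r (f g)) = f g := by
    intro g
    have h : ∃ g', f g' = f g := ⟨g, rfl⟩
    simp only [r, dif_pos h]
    exact h.choose_spec
  apply Nat.card_le_card_of_injective (fun g : O Q => (f g, (⟨_, hf (r (f g)) g (hr g)⟩ : E Q)))
  intro g g' e
  have e1 : f g = f g' := congrArg Prod.fst e
  have e2 : ((r (f g) : O Q) : V ≃ₗ[F] V)⁻¹ * g = ((r (f g') : O Q) : V ≃ₗ[F] V)⁻¹ * g' :=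
    congrArg (fun t : _ × E Q => (t.2 : V ≃ₗ[F] V)) e
  rw [e1] at e2
  exact Subtype.ext (mul_left_cancel e2)

end

section

variable {F V : Type*} [Field F] [AddCommGroup V] [Module F V] {Q : QuadraticForm F V}
  {W U : Submodule F V}

theorem det_glue [Module.Finite F V] (hc : IsCompl W U) (w : W ≃ₗ[F] W) (u : U ≃ₗ[F] U) :
    LinearEquiv.det (glue hc w u) = LinearEquiv.det w * LinearEquiv.det u := by
  rw [← Cfsg.Agent.H160.QSpin.det_pr, ← Cfsg.Agent.H160.QSpin.det_cj (Submodule.prodEquivOfIsCompl W U hc)]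
  rfl

theorem mem_slV {g : V ≃ₗ[F] V} : g ∈ slV F V ↔ LinearEquiv.det g = 1 := by
  rw [← Units.val_inj, LinearEquiv.coe_det, Units.val_one]
  rfl

/-- a block of type plus has no invariant subspaces of small dimension -/
theorem bp_no_small [Module.Finite F V] {x : V ≃ₗ[F] V} (hx : x ∈ (frmQ Q).Bp) {j : ℕ}
    (hj : Module.finrank F V = 2 * j) {Z : Submodule F V} (hZ : _root_.Cfsg.Agent.H847.Bs.Inv x Z) (hfZ : Module.finrank F Z < j) :
    Z = ⊥ := by
  obtain ⟨-, A, A', hc, -, -, hA, hA', hf, -⟩ := hx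
  have h1 := Submodule.finrank_add_eq_of_isCompl hc
  have h2 : _root_.Cfsg.Agent.H847.Bs.Inv x (Z ⊓ A) := fun v hv => ⟨hZ v hv.1, hA.inv v hv.2⟩
  have h3 : _root_.Cfsg.Agent.H847.Bs.Inv x ((Z ⊔ A) ⊓ A') := by
    intro v hv
    refine ⟨?_, hA'.inv v hv.2⟩
    obtain ⟨z, hz, a, ha, e⟩ := Submodule.mem_sup.1 hv.1
    rw [← e, map_add]
    exact Submodule.add_mem_sup (hZ z hz) (hA.inv a ha)
  have h4 : Z ⊓ A = ⊥ := by
    rcases hA.min _ inf_le_right h2 with h | h
    · exact h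
    · exfalso
      have h5 : A ≤ Z := by rw [← h]; exact inf_le_left
      have := Submodule.finrank_mono h5
      omega
  have h5 : (Z ⊔ A) ⊓ A' = ⊥ := by
    rcases hA'.min _ inf_le_right h3 with h | h
    · exact h
    · exfalso
      have h6 : A' ≤ Z ⊔ A := by rw [← h]; exact inf_le_left
      have h7 : Z ⊔ A = ⊤ := by
        rw [eq_top_iff, ← hc.sup_eq_top]
        exact sup_le le_sup_right h6
      have h8 := Submodule.finrank_sup_add_finrank_inf_eq Z A
      rw [h7, h4, finrank_top, finrank_bot] at h8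
      omega
  have h6 : Z ≤ A := by
    have h7 : A ⊔ ((Z ⊔ A) ⊓ A') = Z ⊔ A := by
      rw [inf_comm, ← sup_inf_assoc_of_le A' (le_sup_right : A ≤ Z ⊔ A), hc.sup_eq_top, top_inf_eq]
    rw [h5, sup_bot_eq] at h7
    rw [h7]
    exact le_sup_left
  rw [eq_bot_iff, ← h4]
  exact le_inf le_rfl h6

end

section

variable {F V : Type} [Field F] [AddCommGroup V] [Module F V] {Q : QuadraticForm F V}

/-- the elements of `E Q` without invariant subspaces of dimension `1, …, 7` -/
def noSmall (Q : QuadraticForm F V) : Set (V ≃ₗ[F] V) :=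
  {x | x ∈ E Q ∧ ∀ Z : Submodule F V, _root_.Cfsg.Agent.H847.Bs.Inv x Z → Module.finrank F Z ≤ 7 → Z = ⊥}

theorem nQ_two (h2 : (2 : F) = 0) : nQ Q = E Q := by
  unfold nQ
  rw [if_pos h2]

theorem small_even_two {c : ℝ} {K₀ : ℕ} (hC : CountO c K₀) (hc0 : 0 ≤ c) [Finite F] [Module.Finite F V]
    (h2 : (2 : F) = 0) (hQ : Nondeg Q) {n K : ℕ} (hK : K₀ ≤ K) (h7 : 7 ≤ K)
    (hd : Module.finrank F V = 2 * n) (hn : K < n) :
    c / (K + 1) * (Nat.card (E Q) : ℝ) ≤ Nat.card (noSmall Q) := by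
  have h1 := hC F V Q hQ n K hK hd hn
  have h3 : Nat.card {x : V ≃ₗ[F] V // x ∈ (frmQ Q).SS K (2 * n) ∧ x ∈ nQ Q} ≤ Nat.card (noSmall Q) := by
    apply Nat.card_le_card_of_injective (fun x => (⟨x.1, by
      have h4 : x.1 ∈ E Q := (nQ_two h2).le x.2.2
      refine ⟨h4, fun Z hZ hfZ => ?_⟩
      by_contra hne
      have := x.2.1.2.1 Z hZ hne
      omega⟩ : noSmall Q))
    intro a b e
    exact Subtype.ext (congrArg (fun t : noSmall Q => (t : V ≃ₗ[F] V)) e)
  have h4 : (Nat.card (E Q) : ℝ) ≤ Nat.card (O Q) := by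
    exact_mod_cast Nat.card_le_card_of_injective (Subgroup.inclusion (E_le_O (Q := Q)))
      (Subgroup.inclusion_injective _)
  have h5 : (0 : ℝ) ≤ c / (K + 1) := by (clear * - hc0 h7; positivity)
  calc c / (K + 1) * (Nat.card (E Q) : ℝ) ≤ c / (K + 1) * (Nat.card (O Q) : ℝ) :=
        mul_le_mul_of_nonneg_left h4 h5
    _ ≤ _ := h1
    _ ≤ _ := by exact_mod_cast h3

theorem small_even_odd {c : ℝ} {K₀ : ℕ} (hC : CountO c K₀) (hA : CountAdj) (hc0 : 0 ≤ c) [Finite F]
    [Module.Finite F V] (h2 : (2 : F) ≠ 0) (hQ : Nondeg Q) {n K : ℕ} (hK : K₀ ≤ K) (h16 : 16 ≤ K)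
    (hd : Module.finrank F V = 2 * n) (hn : K + 8 < n) :
    c / (128 * (K + 1)) * (Nat.card (E Q) : ℝ) ≤ Nat.card (noSmall Q) := by
  classical
  have : Finite V := Module.finite_of_finite F
  have hG := good_of_finite hQ (by omega : 5 ≤ Module.finrank F V)
  obtain ⟨W, hW, hfW, hplus⟩ := exists_plus hQ 8 (by omega)
  have hs : Split Q W (perp Q W) := split_perp hW
  set U := perp Q W with hUdef
  have hU := hs.ndOn_right hQ
  have hc := Split.isCompl hs hQ
  have hfU := hs.finrank hQ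
  have hGW : Good (Q.comp W.subtype) := good_of_finite (nondeg_comp hW) (by omega)
  have hH := hyp_in hW (by omega)
  let Y : Set (U ≃ₗ[F] U) :=
    {u | u ∈ (frmQ (Q.comp U.subtype)).SS K (2 * (n - 8)) ∧ u ∈ nQ (Q.comp U.subtype)}
  have hYO : ∀ u ∈ Y, u ∈ O (Q.comp U.subtype) := fun u hu => by
    rw [← iso_frmQ]; exact hu.1.1
  have hYdet : ∀ u ∈ Y, LinearEquiv.det u = 1 := fun u hu => by
    have h4 := hu.2
    rw [nQ, if_neg h2] at h4
    exact mem_slV.1 h4.2
  let P : Set ((W ≃ₗ[F] W) × (U ≃ₗ[F] U)) :=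
    {p | p.1 ∈ (frmQ (Q.comp W.subtype)).Bp ∧ p.2 ∈ Y ∧ glue hc p.1 p.2 ∈ E Q}
  have hadj := hA F W (Q.comp W.subtype) (nondeg_comp hW) hplus h2 8 le_rfl hfW
  -- many `w` for each `u`
  have hfib : ∀ u : Y, Nat.card (O (Q.comp W.subtype)) ≤
      128 * Nat.card {w : W ≃ₗ[F] W // (w, (u : U ≃ₗ[F] U)) ∈ P} := by
    intro u
    obtain ⟨w₀, hw₀, hw₀E⟩ := exists_glue_mem_E hG hs hc hH (hYO u u.2)
    have hdet : LinearEquiv.det w₀ = 1 := by
      have h5 := ((mem_E_iff' hG h2 (E_le_O hw₀E)).1 hw₀E).1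
      rw [det_glue, hYdet u u.2, mul_one] at h5
      exact h5
    have hsub : ∀ {A : Set (W ≃ₗ[F] W)}, (∀ w ∈ A, w ∈ (frmQ (Q.comp W.subtype)).Bp ∧
        w * w₀⁻¹ ∈ E (Q.comp W.subtype)) →
        Nat.card A ≤ Nat.card {w : W ≃ₗ[F] W // (w, (u : U ≃ₗ[F] U)) ∈ P} := by
      intro A hA'
      apply Nat.card_le_card_of_injective (fun w : A =>
        (⟨(w : W ≃ₗ[F] W), (hA' w w.2).1, u.2, by
          have h6 : glue hc (w : W ≃ₗ[F] W) (u : U ≃ₗ[F] U) =
              glueL hc ((w : W ≃ₗ[F] W) * w₀⁻¹) * glue hc w₀ (u : U ≃ₗ[F] U) := by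
            rw [glueL_apply, ← glue_mul, one_mul, inv_mul_cancel_right]
          show glue hc (w : W ≃ₗ[F] W) (u : U ≃ₗ[F] U) ∈ E Q
          rw [h6]
          exact mul_mem (glueL_mem_E hs hc (hA' w w.2).2) hw₀E⟩ :
          {w : W ≃ₗ[F] W // (w, (u : U ≃ₗ[F] U)) ∈ P}))
      intro a b e
      have h7 := congrArg (fun t : {w : W ≃ₗ[F] W // (w, (u : U ≃ₗ[F] U)) ∈ P} => (t : W ≃ₗ[F] W)) e
      exact Subtype.ext h7
    by_cases hcase : w₀ ∈ E (Q.comp W.subtype)
    · have h8 := hsub (A := {w | w ∈ (frmQ (Q.comp W.subtype)).Bp ∧ w ∈ E (Q.comp W.subtype)})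
        (fun w hw => ⟨hw.1, mul_mem hw.2 (inv_mem hcase)⟩)
      have h9 : Nat.card {w | w ∈ (frmQ (Q.comp W.subtype)).Bp ∧ w ∈ E (Q.comp W.subtype)} =
        Nat.card {w : W ≃ₗ[F] W // w ∈ (frmQ (Q.comp W.subtype)).Bp ∧ w ∈ E (Q.comp W.subtype)} := rfl
      have h10 := hadj.1
      omega
    · have hspin : ∀ w ∈ O (Q.comp W.subtype), LinearEquiv.det w = 1 → w ∉ E (Q.comp W.subtype) →
          ∀ hw : w ∈ O (Q.comp W.subtype), spin (Q.comp W.subtype) ⟨w, hw⟩ = -1 := by
        intro w _ hdw hnE hw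
        rcases Int.units_eq_one_or (spin (Q.comp W.subtype) ⟨w, hw⟩) with h | h
        · exact absurd ((mem_E_iff' hGW h2 hw).2 ⟨hdw, h⟩) hnE
        · exact h
      have h8 := hsub (A := {w | w ∈ (frmQ (Q.comp W.subtype)).Bp ∧ w ∈ slV F W ∧
          w ∉ E (Q.comp W.subtype)}) (fun w hw => by
        refine ⟨hw.1, ?_⟩
        have hwO : w ∈ O (Q.comp W.subtype) := by rw [← iso_frmQ]; exact hw.1.1
        have hm : w * w₀⁻¹ ∈ O (Q.comp W.subtype) := mul_mem hwO (inv_mem hw₀)
        rw [mem_E_iff' hGW h2 hm]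
        refine ⟨by rw [map_mul, map_inv, hdet, mem_slV.1 hw.2.1, inv_one, mul_one], ?_⟩
        have h3 : (⟨w * w₀⁻¹, hm⟩ : O (Q.comp W.subtype)) = ⟨w, hwO⟩ * ⟨w₀, hw₀⟩⁻¹ := rfl
        rw [h3, map_mul, map_inv, hspin w hwO (mem_slV.1 hw.2.1) hw.2.2, hspin w₀ hw₀ hdet hcase]
        decide)
      have h9 : Nat.card {w | w ∈ (frmQ (Q.comp W.subtype)).Bp ∧ w ∈ slV F W ∧
          w ∉ E (Q.comp W.subtype)} =
        Nat.card {w : W ≃ₗ[F] W // w ∈ (frmQ (Q.comp W.subtype)).Bp ∧ w ∈ slV F W ∧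
          w ∉ E (Q.comp W.subtype)} := rfl
      have h10 := hadj.2
      omega
  have hP : Nat.card Y * Nat.card (O (Q.comp W.subtype)) ≤ 128 * Nat.card P := by
    let _ := Fintype.ofFinite Y
    let e : P ≃ (Σ u : Y, {w : W ≃ₗ[F] W // (w, (u : U ≃ₗ[F] U)) ∈ P}) :=
      { toFun := fun p => ⟨⟨p.1.2, p.2.2.1⟩, ⟨p.1.1, p.2⟩⟩
        invFun := fun q => ⟨(q.2.1, (q.1 : U ≃ₗ[F] U)), q.2.2⟩
        left_inv := fun p => rfl
        right_inv := fun q => rfl }
    rw [Nat.card_congr e, Nat.card_sigma, Finset.mul_sum]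
    calc Nat.card Y * Nat.card (O (Q.comp W.subtype))
        = ∑ _u : Y, Nat.card (O (Q.comp W.subtype)) := by
          rw [Finset.sum_const, Finset.card_univ, smul_eq_mul, Nat.card_eq_fintype_card]
      _ ≤ _ := Finset.sum_le_sum fun u _ => hfib u
  have hTI : ∀ g ∈ O Q, ∀ p ∈ P, ∀ p' ∈ P,
      g * glue hc p.1 p.2 * g⁻¹ = glue hc p'.1 p'.2 → _root_.Cfsg.Agent.H847.Bs.Inv g W := by
    intro g hg p hp p' hp' e
    have h1 := inv_conj (g := g) (inv_glue_left hc p.1 p.2)
    rw [e] at h1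
    have h2 := le_left_of_small hc hp'.2.1.1.2.1 h1 (by rw [finrank_map]; omega)
    intro v hv
    exact h2 ⟨v, hv, rfl⟩
  have h1 := card_conjs hQ hs hc P hTI
  have h3 := hC F U (Q.comp U.subtype) (nondeg_comp hU) (n - 8) K hK (by omega) (by omega)
  have hsub : Nat.card (conjs Q hc P) ≤ Nat.card (noSmall Q) := by
    apply Nat.card_mono (Set.toFinite _)
    rintro _ ⟨g, hg, p, hp, rfl⟩
    refine ⟨conj_mem_E hg hp.2.2, fun Z hZ hfZ => ?_⟩
    have h4 := le_left_of_small hc hp.2.1.1.2.1 (inv_conj' hZ) (by rw [finrank_map]; omega)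
    set Z' := Z.map (g⁻¹ : V ≃ₗ[F] V).toLinearMap with hZ'
    have h5 : _root_.Cfsg.Agent.H847.Bs.Inv p.1 (Z'.comap W.subtype) := by
      intro v hv
      show ((p.1 v : W) : V) ∈ Z'
      rw [← glue_left hc p.1 p.2]
      exact inv_conj' hZ _ hv
    have h6 : (Z'.comap W.subtype).map W.subtype = Z' := by
      rw [Submodule.map_comap_subtype, inf_eq_right.2 h4]
    have h7 : Module.finrank F (Z'.comap W.subtype) = Module.finrank F Z := by
      rw [finrank_comap_of_le h4, hZ', finrank_map]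
    have h8 := bp_no_small hp.1 hfW h5 (by omega)
    rw [← map_inv_map g Z, ← hZ', ← h6, h8, Submodule.map_bot, Submodule.map_bot]
  have hOW : 0 < Nat.card (O (Q.comp W.subtype)) := Nat.card_pos
  have hOU : (0 : ℝ) < Nat.card (O (Q.comp U.subtype)) := by
    exact_mod_cast Nat.card_pos
  have h4 : Nat.card (O Q) * Nat.card Y ≤ 128 * (Nat.card (conjs Q hc P) * Nat.card (O (Q.comp U.subtype))) := by
    apply Nat.le_of_mul_le_mul_left _ hOW
    calc Nat.card (O (Q.comp W.subtype)) * (Nat.card (O Q) * Nat.card Y)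
        = Nat.card (O Q) * (Nat.card Y * Nat.card (O (Q.comp W.subtype))) := by ring
      _ ≤ Nat.card (O Q) * (128 * Nat.card P) := Nat.mul_le_mul_left _ hP
      _ = 128 * (Nat.card (O Q) * Nat.card P) := by ring
      _ ≤ 128 * (Nat.card (conjs Q hc P) *
          (Nat.card (O (Q.comp W.subtype)) * Nat.card (O (Q.comp U.subtype)))) :=
          Nat.mul_le_mul_left _ h1
      _ = _ := by ring
  have h5 : (Nat.card (O Q) : ℝ) * Nat.card Y ≤
      128 * (Nat.card (conjs Q hc P) * Nat.card (O (Q.comp U.subtype))) := by exact_mod_cast h4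
  have h6 : c / (K + 1) * (Nat.card (O (Q.comp U.subtype)) : ℝ) ≤ Nat.card Y := h3
  have h7 : c / (128 * (K + 1)) * (Nat.card (O Q) : ℝ) * Nat.card (O (Q.comp U.subtype)) ≤
      Nat.card (conjs Q hc P) * Nat.card (O (Q.comp U.subtype)) := by
    have h8 : (0 : ℝ) ≤ Nat.card (O Q) := Nat.cast_nonneg _
    have h9 := mul_le_mul_of_nonneg_left h6 h8
    have h10 : c / (128 * (K + 1)) * (Nat.card (O Q) : ℝ) * Nat.card (O (Q.comp U.subtype)) =
        ((Nat.card (O Q) : ℝ) * (c / (K + 1) * (Nat.card (O (Q.comp U.subtype)) : ℝ))) / 128 := by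
      field_simp
    rw [h10]
    linarith only [h5, h9]
  have h8 := le_of_mul_le_mul_right h7 hOU
  have h9 : (Nat.card (E Q) : ℝ) ≤ Nat.card (O Q) := by
    exact_mod_cast Nat.card_le_card_of_injective (Subgroup.inclusion (E_le_O (Q := Q)))
      (Subgroup.inclusion_injective _)
  have h10 : (0 : ℝ) ≤ c / (128 * (K + 1)) := by (clear * - hc0; positivity)
  calc c / (128 * (K + 1)) * (Nat.card (E Q) : ℝ) ≤ c / (128 * (K + 1)) * (Nat.card (O Q) : ℝ) :=
        mul_le_mul_of_nonneg_left h9 h10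
    _ ≤ _ := h8
    _ ≤ _ := by exact_mod_cast hsub

end

end Cfsg.Agent.H380.Bs
end

private theorem dce_e0da9851c706 : _root_.True := by
  try have : _root_.True := by simp only [_root_.Cfsg.Agent.H380.Bs.conjs.congr_simp]
  try have : _root_.True := by simp only [_root_.Cfsg.Agent.H847.Bs.nQ.eq_1]
  try have : _root_.True := by simp only [_root_.Cfsg.Agent.H847.Bs.glue.eq_1]
  try have : _root_.True := by simp only [_root_.Cfsg.Agent.H380.Bs.prs.congr_simp]
  exact _root_.True.intro
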